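import Groth.Agent.WittHomLib.Endo
import Groth.Agent.MaxTorus.Basic
import Mathlib

/-! Witt groups are smooth, connected and without subtori. -/

set_option autoImplicit false
set_option backward.isDefEq.respectTransparency false
universe u

open CategoryTheory CategoryTheory.Limits AlgebraicGeometry Opposite MonObj MonoidalCategory CartesianMonoidalCategory

noncomputable section

namespace Groth.Agent.WittHomLib

set_option backward.isDefEq.respectTransparency.types false in
open AffineSpace MvPolynomial in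
theorem smooth_affineSpace (σ : Type u) [Finite σ] (S : Scheme.{u}) : Smooth (𝔸(σ; S) ↘ S) :=
  MorphismProperty.pullback_fst _ _ <| by
  have := isIso_of_isTerminal specULiftZIsTerminal.{u} terminalIsTerminal (terminal.from _)
  rw [← terminal.comp_from (Spec.map (CommRingCat.ofHom C)),
    MorphismProperty.cancel_right_of_respectsIso (P := @Smooth),
    HasRingHomProperty.Spec_iff (P := @Smooth), CommRingCat.hom_ofHom, ← MvPolynomial.algebraMap_eq,
    RingHom.smooth_algebraMap]
  show Algebra.Smooth (ULift.{u} ℤ) (MvPolynomial σ (ULift.{u} ℤ))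
  exact ⟨inferInstance, inferInstance⟩

variable {p : ℕ} [hp : Fact p.Prime] {k : Type u} [Field k]

local notation "B" => Spec (CommRingCat.of k)

theorem smooth_W (n : ℕ) : Smooth (WittGrp.W p n B).hom :=
  smooth_affineSpace (ULift.{u} (Fin n)) B

theorem connectedSpace_W (n : ℕ) : ConnectedSpace ↥(WittGrp.W p n B).left := by
  haveI : ConnectedSpace ↥(Spec (CommRingCat.of (MvPolynomial (ULift.{u} (Fin n)) k))) :=
    @IrreducibleSpace.connectedSpace (PrimeSpectrum (MvPolynomial (ULift.{u} (Fin n)) k)) _ PrimeSpectrum.irreducibleSpace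
  exact (AffineSpace.SpecIso (ULift.{u} (Fin n)) (CommRingCat.of k)).inv.homeomorph.surjective.connectedSpace
    (AffineSpace.SpecIso (ULift.{u} (Fin n)) (CommRingCat.of k)).inv.homeomorph.continuous

/-- A torus killed by a positive power is trivial. -/
theorem isTrivialGrp_of_pow {T : Over B} [GrpObj T] (hT : Red.IsTorus T) {m : ℕ} (hm : m ≠ 0)
    (hpow : (𝟙 T) ^ m = 1) : Red.IsTrivialGrp T := by
  obtain ⟨S', f, hf, hfs, -, hloc⟩ := hT
  haveI := hf
  haveI := hfs
  haveI : Nonempty ↥B := inferInstanceAs (Nonempty (PrimeSpectrum k))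
  obtain ⟨s', -⟩ := f.surjective (Classical.arbitrary ↥B)
  obtain ⟨U, hs', r, hsplit⟩ := hloc s'
  obtain ⟨_, ⟨(V : S'.Opens), hV, rfl⟩, hsV, hVU⟩ := S'.isBasis_affineOpens.exists_subset_of_mem_open hs' U.2
  haveI : IsAffine (V : Scheme.{u}) := hV
  let g : (V : Scheme.{u}) ⟶ B := Scheme.Opens.ι V ≫ f
  obtain ⟨e⟩ := QuotTorus.isSplit_of_comp (S'.homOfLE hVU) (U.ι ≫ f) (d := g)
    (by rw [← Category.assoc, Scheme.homOfLE_ι]) hsplit
  let e₀ : Red.bc g T ≅ Red.DS _ (Fin r → ℤ) := ⟨e.hom.hom.hom, e.inv.hom.hom,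
    congrArg (fun f => f.hom.hom) e.hom_inv_id, congrArg (fun f => f.hom.hom) e.inv_hom_id⟩
  haveI : IsMonHom e₀.inv := e.inv.hom.isMonHom_hom
  have hbc : (𝟙 (Red.bc g T)) ^ m = 1 := by
    have hmap : ∀ j : ℕ, (Over.pullback g).map ((𝟙 T) ^ j) = (𝟙 (Red.bc g T)) ^ j := by
      intro j
      induction j with
      | zero => rw [pow_zero, pow_zero, Functor.map_one]
      | succ j ih => rw [pow_succ, pow_succ, Functor.map_mul, ih, CategoryTheory.Functor.map_id]
    rw [← hmap, hpow, Functor.map_one]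
  have hu : e₀.inv = 1 := MaxTorus.eq_one_of_pow e₀.inv hm fun X x => by
    rw [← Category.comp_id x, ← MonObj.comp_pow, hbc, MonObj.comp_one]
  have hid : 𝟙 (Red.bc g T) = 1 := by rw [← e₀.hom_inv_id, hu, MonObj.comp_one]
  have hiso : IsIso (Red.bc g T).hom := by
    refine ⟨(η : _ ⟶ Red.bc g T).left, ?_, ?_⟩
    · have h1 := congrArg CommaMorphism.left hid
      rw [Hom.one_def] at h1
      exact h1.symm
    · exact Over.w (η : _ ⟶ Red.bc g T)
  haveI : Surjective g := by
    refine ⟨fun x => ⟨⟨s', hsV⟩, ?_⟩⟩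
    exact @Subsingleton.elim _ (inferInstanceAs (Subsingleton (PrimeSpectrum k))) _ _
  have key := MorphismProperty.of_pullback_snd_of_descendsAlong (P := MorphismProperty.isomorphisms Scheme.{u})
    (Q := @Surjective ⊓ @Flat ⊓ @QuasiCompact) (f := T.hom) (g := g) ⟨⟨inferInstance, inferInstance⟩, inferInstance⟩
    hiso
  exact key

theorem hasNoSubtorus_W [CharP k p] (n : ℕ) : Red.HasNoSubtorus k (WittGrp.W p n B) := by
  intro T _ j _ _ hT
  refine isTrivialGrp_of_pow hT (pow_ne_zero n hp.out.ne_zero) ?_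
  rw [← cancel_mono j, MonObj.pow_comp, Category.id_comp, MonObj.one_comp, ← Category.comp_id j,
    ← MonObj.comp_pow, id_pow_eq_one, MonObj.comp_one]

end Groth.Agent.WittHomLib
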