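import Groth.Agent.WittHomLib.KPoints
import Groth.Agent.WittHomLib.Torus
import Groth.Agent.S7549
import Groth.Prelude.Def_SGA7IX
import Mathlib

/-! Endomorphisms of Witt groups which are isogenies. -/

set_option autoImplicit false
set_option backward.isDefEq.respectTransparency false
universe u

open CategoryTheory CategoryTheory.Limits AlgebraicGeometry Opposite MonObj MonoidalCategory CartesianMonoidalCategory

noncomputable section

namespace Groth.Agent.WittHomLib

variable {p : ℕ} [hp : Fact p.Prime] {k : Type u} [Field k]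

local notation "B" => Spec (CommRingCat.of k)
local notation "pt₀" => IsLocalRing.closedPoint k

theorem toUnit_eta : toUnit (WittGrp.W p 0 B) ≫ η = 𝟙 _ := subsingleton_W0 _ _

theorem eta_toUnit : η ≫ toUnit (WittGrp.W p 0 B) = 𝟙 _ := toUnit_unique _ _

/-- The closed point of a rational point. -/
def ptImage {N : Over B} (σ : WittGrp.W p 0 B ⟶ N) : N.left :=
  ((η : 𝟙_ (Over B) ⟶ WittGrp.W p 0 B) ≫ σ).left pt₀

theorem ptImage_comp {N M : Over B} (σ : WittGrp.W p 0 B ⟶ N) (g : N ⟶ M) :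
    ptImage (σ ≫ g) = g.left (ptImage σ) := rfl

theorem isClosed_ptImage {N : Over B} [LocallyOfFiniteType N.hom] [IsAlgClosed k] (σ : WittGrp.W p 0 B ⟶ N) :
    IsClosed {ptImage σ} :=
  (pointEquivClosedPoint N.hom ⟨(η ≫ σ).left, Over.w _⟩).2

theorem ptImage_injective {N : Over B} [LocallyOfFiniteType N.hom] [IsAlgClosed k] :
    Function.Injective (ptImage (p := p) (k := k) (N := N)) := by
  intro σ τ h
  have h1 : (⟨(η ≫ σ).left, Over.w _⟩ : {s : Spec (.of k) ⟶ N.left // s ≫ N.hom = 𝟙 _}) = ⟨(η ≫ τ).left, Over.w _⟩ :=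
    (pointEquivClosedPoint N.hom).injective (Subtype.ext h)
  have h2 : η ≫ σ = η ≫ τ := Over.OverMorphism.ext (congrArg Subtype.val h1)
  have h3 := congrArg (toUnit (WittGrp.W p 0 B) ≫ ·) h2
  simp only [← Category.assoc, toUnit_eta, Category.id_comp] at h3
  exact h3

theorem exists_ptImage {N : Over B} [LocallyOfFiniteType N.hom] [IsAlgClosed k] {z : N.left} (hz : IsClosed {z}) :
    ∃ σ : WittGrp.W p 0 B ⟶ N, ptImage σ = z := by
  let τ : 𝟙_ (Over B) ⟶ N := Over.homMk _ ((pointEquivClosedPoint N.hom).symm ⟨z, hz⟩).2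
  refine ⟨toUnit _ ≫ τ, ?_⟩
  show ((η ≫ toUnit (WittGrp.W p 0 B) ≫ τ)).left _ = z
  rw [← Category.assoc, eta_toUnit, Category.id_comp]
  exact congrArg Subtype.val ((pointEquivClosedPoint N.hom).apply_symm_apply ⟨z, hz⟩)

theorem lft_W (n : ℕ) : LocallyOfFiniteType (WittGrp.W p n B).hom := by
  haveI := smooth_W (p := p) (k := k) n
  infer_instance

theorem isAffineHom_W (n : ℕ) : IsAffineHom (WittGrp.W p n B).hom :=
  inferInstanceAs (IsAffineHom (𝔸(ULift.{u} (Fin n); B) ↘ B))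

theorem isClosedImmersion_eta (n : ℕ) : IsClosedImmersion (η : 𝟙_ (Over B) ⟶ WittGrp.W p n B).left := by
  haveI := isAffineHom_W (p := p) (k := k) n
  haveI : IsClosedImmersion ((η : 𝟙_ (Over B) ⟶ WittGrp.W p n B).left ≫ (WittGrp.W p n B).hom) := by
    rw [Over.w]; exact inferInstanceAs (IsClosedImmersion (𝟙 _))
  exact IsClosedImmersion.of_comp _ (WittGrp.W p n B).hom

theorem tw_eq (m : ℕ) : tw p B (m + 1) = WittGrp.R p B (Nat.le_succ m) ≫ WittGrp.V p B (Nat.le_succ m) := by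
  have hid : WittGrp.R p B (le_refl (m + 1)) = 𝟙 _ := vec_injective (TruncatedWittVector.ext fun i => by
    rw [← Category.id_comp (WittGrp.R p B _), coeff_R])
  have h := tw_R (p := p) (S := B) (n := m) (N := m + 1) le_rfl
  rw [hid, Category.comp_id] at h
  exact h.symm

variable [IsAlgClosed k]

theorem isFinite_kernel {n m : ℕ} (f : WittGrp.W p n B ⟶ WittGrp.W p m B)
    (hfin : {x : Pt p k n | x ≫ f = 1}.Finite) (N : Over B) (i : N ⟶ WittGrp.W p n B) (h : AlgGrp.IsKernel i f) :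
    IsFinite N.hom := by
  haveI := lft_W (p := p) (k := k) n
  haveI := isAffineHom_W (p := p) (k := k) n
  haveI : IsClosedImmersion i.left :=
    MorphismProperty.of_isPullback (P := @IsClosedImmersion) (h.map (Over.forget B)).flip (isClosedImmersion_eta m)
  haveI : LocallyOfFiniteType N.hom := by
    rw [← Over.w i]; infer_instance
  haveI : IsAffineHom N.hom := by
    rw [← Over.w i]; infer_instance
  haveI := LocallyOfFiniteType.jacobsonSpace N.hom
  have hfin' : (closedPoints N.left).Finite := by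
    refine Set.Finite.of_finite_image (f := fun z => i.left z) ((hfin.image ptImage).subset ?_)
      (i.left.isClosedEmbedding.injective.injOn)
    rintro _ ⟨z, hz, rfl⟩
    obtain ⟨σ, rfl⟩ := exists_ptImage (p := p) hz
    refine ⟨σ ≫ i, ?_, ptImage_comp σ i⟩
    rw [Set.mem_setOf_eq, Category.assoc, h.w, ← Category.assoc, toUnit_unique (σ ≫ toUnit N) (toUnit _), ← Hom.one_def]
  haveI : Finite N.left := by
    refine Set.finite_univ_iff.mp ?_
    rw [← closure_closedPoints]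
    have hcl : IsClosed (closedPoints N.left) := by
      have := hfin'.isClosed_biUnion (f := fun z => ({z} : Set N.left)) fun z hz => hz
      rwa [Set.biUnion_of_singleton] at this
    rw [hcl.closure_eq]
    exact hfin'
  haveI : LocallyQuasiFinite N.hom :=
    locallyQuasiFinite_iff_finite_preimage_singleton.mpr fun x => Set.toFinite _
  exact IsFinite.of_locallyQuasiFinite _

theorem not_isogeny_of_finite {n m : ℕ} (f : WittGrp.W p n B ⟶ WittGrp.W p m B)
    (hinf : {x : Pt p k n | x ≫ f = 1}.Infinite) : ¬ SGA7.IsIsogenyOver f := by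
  rintro ⟨-, hk⟩
  have sq : AlgGrp.IsKernel (pullback.fst f η[WittGrp.W p m B]) f := by
    have h := IsPullback.of_hasPullback f η[WittGrp.W p m B]
    rwa [toUnit_unique (pullback.snd f η[WittGrp.W p m B]) (toUnit _)] at h
  haveI := hk _ _ sq
  haveI : Finite ↥(pullback f η[WittGrp.W p m B]).left :=
    Set.finite_univ_iff.mp ((Scheme.Hom.finite_preimage_singleton (pullback f η[WittGrp.W p m B]).hom pt₀).subset
      fun z _ => Subsingleton.elim (α := PrimeSpectrum k) _ _)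
  haveI := lft_W (p := p) (k := k) n
  have hsub : ptImage '' {x : Pt p k n | x ≫ f = 1} ⊆
      Set.range fun z => (pullback.fst f η[WittGrp.W p m B]).left z := by
    rintro _ ⟨x, hx, rfl⟩
    exact ⟨ptImage (pullback.lift x (toUnit _) (hx.trans Hom.one_def)),
      (ptImage_comp _ _).symm.trans (congrArg ptImage (pullback.lift_fst _ _ _))⟩
  exact hinf (((Set.finite_range _).subset hsub).of_finite_image ptImage_injective.injOn)

variable [CharP k p]

theorem finite_ker_pts {n : ℕ} (hn : 1 ≤ n) (f : WittGrp.W p n B ⟶ WittGrp.W p n B) [IsMonHom f]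
    (g : WittGrp.W p 1 B ⟶ WittGrp.W p 1 B) [IsMonHom g] (hg : g ≠ 1)
    (hgf : WittGrp.R p B hn ≫ g = f ≫ WittGrp.R p B hn) : {x : Pt p k n | x ≫ f = 1}.Finite := by
  haveI : PerfectRing k p := PerfectField.toPerfectRing p
  suffices h : ∀ d j, n ≤ j + d → {x : Pt p k n | x ≫ f = 1 ∧ ∃ z, z ^ p ^ j = x}.Finite by
    refine (h n 0 (Nat.le_add_left n 0)).subset fun x hx => ⟨hx, x, ?_⟩
    rw [pow_zero, pow_one]
  intro d
  induction d with
  | zero =>
    intro j hj
    refine (Set.finite_singleton 1).subset ?_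
    rintro x ⟨-, z, rfl⟩
    obtain ⟨c, hc⟩ := Nat.exists_eq_add_of_le (show n ≤ j from hj)
    rw [Set.mem_singleton_iff, hc, pow_add, pow_mul, pow_eq_one, one_pow]
  | succ d ih =>
    intro j hj
    by_cases hjn : n ≤ j
    · exact (ih j (by omega))
    have key : ∀ z : Pt p k n, (z ^ p ^ j) ≫ f = 1 → (z ≫ WittGrp.R p B hn) ≫ g = 1 := by
      intro z hz
      rw [MonObj.pow_comp] at hz
      have h := congrFun (congrArg cv hz) ⟨j, by omega⟩
      rw [cv_pow, dif_pos le_rfl, cv_one] at h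
      rw [Category.assoc, hgf, ← Category.assoc]
      refine cv_injective (funext fun i => ?_)
      rw [cv_R, cv_one, ← pow_eq_zero_iff (pow_ne_zero j hp.out.ne_zero), ← h]
      congr 2
      exact Fin.ext (show (i : ℕ) = j - j by omega)
    refine ((ker_and_surj_W1 g hg).1.biUnion (t := fun a => {x : Pt p k n | x ≫ f = 1 ∧
      ∃ z, z ^ p ^ j = x ∧ z ≫ WittGrp.R p B hn = a}) fun a ha => ?_).subset fun x hx => ?_
    · rcases Set.eq_empty_or_nonempty {x : Pt p k n | x ≫ f = 1 ∧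
        ∃ z, z ^ p ^ j = x ∧ z ≫ WittGrp.R p B hn = a} with he | ⟨x₀, hx₀, z₀, hz₀, hz₀a⟩
      · rw [he]; exact Set.finite_empty
      · refine ((ih (j + 1) (by omega)).image (x₀ * ·)).subset ?_
        rintro x ⟨hx, z, hz, hza⟩
        obtain ⟨w, hw⟩ := exists_pow_p hn (z₀⁻¹ * z) (by
          rw [MonObj.mul_comp, GrpObj.inv_comp, hz₀a, hza, inv_mul_cancel])
        refine ⟨x₀⁻¹ * x, ⟨?_, w, ?_⟩, mul_inv_cancel_left x₀ x⟩
        · rw [MonObj.mul_comp, GrpObj.inv_comp, hx₀, hx, inv_one, _root_.one_mul]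
        · rw [pow_succ', pow_mul, hw, mul_pow, inv_pow, hz₀, hz]
    · obtain ⟨hxf, z, rfl⟩ := hx
      exact Set.mem_biUnion (key z hxf) ⟨hxf, z, rfl, rfl⟩

theorem surj_pts {n : ℕ} (hn : 1 ≤ n) (f : WittGrp.W p n B ⟶ WittGrp.W p n B) [IsMonHom f]
    (g : WittGrp.W p 1 B ⟶ WittGrp.W p 1 B) [IsMonHom g] (hg : g ≠ 1)
    (hgf : WittGrp.R p B hn ≫ g = f ≫ WittGrp.R p B hn) (y : Pt p k n) : ∃ x : Pt p k n, x ≫ f = y := by
  haveI : PerfectRing k p := PerfectField.toPerfectRing p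
  suffices h : ∀ j, ∃ x z : Pt p k n, y = (x ≫ f) * z ^ p ^ j by
    obtain ⟨x, z, hxz⟩ := h n
    exact ⟨x, by rw [hxz, pow_eq_one, _root_.mul_one]⟩
  intro j
  induction j with
  | zero => exact ⟨1, y, by rw [MonObj.one_comp, _root_.one_mul, pow_zero, pow_one]⟩
  | succ j ih =>
    obtain ⟨x, z, hy⟩ := ih
    obtain ⟨c, hc⟩ := (ker_and_surj_W1 g hg).2 (z ≫ WittGrp.R p B hn)
    let c' : Pt p k n := c ≫ pad
    obtain ⟨w, hw⟩ := exists_pow_p hn ((c' ≫ f)⁻¹ * z) (by
      rw [MonObj.mul_comp, GrpObj.inv_comp, Category.assoc, ← hgf, ← hc, show c' = c ≫ pad from rfl, Category.assoc,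
        reassoc_of% (pad_R (p := p) (S := B) hn), inv_mul_cancel])
    refine ⟨x * c' ^ p ^ j, w, ?_⟩
    rw [MonObj.mul_comp, MonObj.pow_comp, pow_succ', pow_mul, hw, mul_pow, inv_pow, _root_.mul_assoc,
      mul_inv_cancel_left, hy]

theorem surjective_of_surj_pts {n m : ℕ} (f : WittGrp.W p n B ⟶ WittGrp.W p m B)
    (h : ∀ y : Pt p k m, ∃ x : Pt p k n, x ≫ f = y) : Surjective f.left := by
  haveI := lft_W (p := p) (k := k) n
  haveI := lft_W (p := p) (k := k) m
  haveI := isAffineHom_W (p := p) (k := k) n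
  haveI := isAffineHom_W (p := p) (k := k) m
  haveI : IsAffine (WittGrp.W p m B).left := isAffine_of_isAffineHom (WittGrp.W p m B).hom
  haveI : IsLocallyNoetherian (WittGrp.W p m B).left := LocallyOfFiniteType.isLocallyNoetherian (WittGrp.W p m B).hom
  haveI : LocallyOfFiniteType (f.left ≫ (WittGrp.W p m B).hom) := by rw [Over.w]; infer_instance
  haveI : LocallyOfFiniteType f.left := locallyOfFiniteType_of_comp f.left (WittGrp.W p m B).hom
  haveI : LocallyOfFinitePresentation f.left := LocallyOfFinitePresentation.iff_locallyOfFiniteType.mpr inferInstance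
  haveI : IsAffineHom (f.left ≫ (WittGrp.W p m B).hom) := by rw [Over.w]; infer_instance
  haveI : IsAffineHom f.left := IsAffineHom.of_comp f.left (WittGrp.W p m B).hom
  haveI := LocallyOfFiniteType.jacobsonSpace (WittGrp.W p m B).hom
  have himg := f.left.isConstructible_image (Topology.IsConstructible.univ (X := ↥(WittGrp.W p n B).left))
  have hsub := ((Groth.Agent.S7549.result (X := ↥(WittGrp.W p m B).left)).2.2.1 _ _
    Topology.IsConstructible.univ himg).1 (by
      rintro ⟨y, hy⟩ -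
      obtain ⟨σ, rfl⟩ := exists_ptImage (p := p) hy
      obtain ⟨x, rfl⟩ := h σ
      exact ⟨ptImage x, trivial, (ptImage_comp x f).symm⟩)
  exact ⟨fun y => let ⟨z, _, hz⟩ := hsub (Set.mem_univ y); ⟨z, hz⟩⟩

instance infinite_pt₁ : Infinite (Pt p k 1) :=
  Infinite.of_injective (fun a : k => mkPt (p := p) fun _ : Fin 1 => a) fun a b h => by
    have := congrFun (congrArg cv h) 0
    rwa [cv_mkPt, cv_mkPt] at this

theorem infinite_ker_of_V {n : ℕ} (hn : 1 ≤ n) {m : ℕ} (f : WittGrp.W p n B ⟶ WittGrp.W p m B)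
    (hV : WittGrp.V p B hn ≫ f = 1) : {x : Pt p k n | x ≫ f = 1}.Infinite := by
  refine Set.Infinite.mono (s := Set.range fun c : Pt p k 1 => c ≫ WittGrp.V p B hn) ?_
    (Set.infinite_range_of_injective fun a b h => cancel_V hn h)
  · rintro _ ⟨c, rfl⟩
    rw [Set.mem_setOf_eq, Category.assoc, hV, MonObj.comp_one]

/-- An endomorphism is an isogeny unless it kills the restriction to length one. -/
theorem isIsogeny_of_R {n : ℕ} (hn : 1 ≤ n) (f : WittGrp.W p n B ⟶ WittGrp.W p n B) [IsMonHom f]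
    (h : f ≫ WittGrp.R p B hn ≠ 1) : SGA7.IsIsogenyOver f := by
  have hnn : 1 + (n - 1) = n := by omega
  obtain ⟨g, hg, hgf⟩ := factor_R hn (Nat.sub_le n 1) hnn (f ≫ WittGrp.R p B hn)
    (V_comp_hom (Nat.sub_le n 1) hnn _)
  have hg1 : g ≠ 1 := fun e => h (by rw [← hgf, e, MonObj.comp_one])
  exact ⟨surjective_of_surj_pts f (surj_pts hn f g hg1 hgf),
    fun N i hk => isFinite_kernel f (finite_ker_pts hn f g hg1 hgf) N i hk⟩

variable [PerfectRing k p]

theorem exists_lift_iff (m : ℕ) (f : WittGrp.W p (m + 1) B ⟶ WittGrp.W p (m + 1) B) [IsMonHom f] :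
    (∃ g : WittGrp.W p (m + 1) B ⟶ WittGrp.W p (m + 1 + 1) B, IsMonHom g ∧
      g ≫ WittGrp.R p B (Nat.le_add_right (m + 1) 1) = f) ↔ ¬ SGA7.IsIsogenyOver f := by
  have h1 : 1 ≤ m + 1 := Nat.le_add_left 1 m
  constructor
  · rintro ⟨g, hg, rfl⟩
    refine not_isogeny_of_finite _ (infinite_ker_of_V h1 _ ?_)
    obtain ⟨h, hh, hhe⟩ := factor_V (Nat.le_add_left 1 (m + 1)) (Nat.le_succ (m + 1)) (Nat.add_comm 1 (m + 1)) g
      (hom_comp_R (Nat.le_add_left 1 (m + 1)) rfl g)
    rw [← hhe, Category.assoc, show WittGrp.V p B (Nat.le_succ (m + 1)) ≫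
        WittGrp.R p B (Nat.le_add_right (m + 1) 1) = tw p B (m + 1) from rfl,
      tw_eq]
    rw [← Category.assoc h, ← Category.assoc, V_comp_hom h1 rfl (h ≫ WittGrp.R p B (Nat.le_succ m)), MonObj.one_comp]
  · intro hf
    have hR : f ≫ WittGrp.R p B h1 = 1 := not_not.mp fun h => hf (isIsogeny_of_R h1 f h)
    obtain ⟨h, hh, hhe⟩ := factor_V h1 (Nat.le_succ m) (Nat.add_comm 1 m) f hR
    obtain ⟨h', hh', hh'e⟩ := factor_R (Nat.le_succ m) h1 rfl h (V_comp_hom h1 rfl _)
    obtain ⟨ψ, hψ, hψe⟩ := exists_lift_R m h' (m + 1) (Nat.le_succ m)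
    haveI := hψ
    refine ⟨ψ ≫ WittGrp.V p B (Nat.le_succ (m + 1)), inferInstance, ?_⟩
    rw [Category.assoc, show WittGrp.V p B (Nat.le_succ (m + 1)) ≫
      WittGrp.R p B (Nat.le_add_right (m + 1) 1) = tw p B (m + 1) from rfl, tw_eq, ← Category.assoc, ← hψe, hh'e, hhe]

theorem exists_extend_iff (m : ℕ) (g : WittGrp.W p (m + 1) B ⟶ WittGrp.W p (m + 1) B) [IsMonHom g] :
    (∃ g' : WittGrp.W p (m + 1 + 1) B ⟶ WittGrp.W p (m + 1) B, IsMonHom g' ∧
      WittGrp.V p B (Nat.le_add_right (m + 1) 1) ≫ g' = g) ↔ ¬ SGA7.IsIsogenyOver g := by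
  have h1 : 1 ≤ m + 1 := Nat.le_add_left 1 m
  constructor
  · rintro ⟨g', hg', rfl⟩
    refine not_isogeny_of_finite _ (infinite_ker_of_V h1 _ ?_)
    rw [← Category.assoc, V_comp h1 (Nat.le_add_right (m + 1) 1), V_comp_hom _ rfl g']
  · intro hg
    have hR : g ≫ WittGrp.R p B h1 = 1 := not_not.mp fun h => hg (isIsogeny_of_R h1 g h)
    obtain ⟨h, hh, hhe⟩ := factor_V h1 (Nat.le_succ m) (Nat.add_comm 1 m) g hR
    obtain ⟨g₂, hg₂, hg₂e⟩ := factor_R (Nat.le_succ m) h1 rfl g (by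
      rw [← hhe, ← Category.assoc, V_comp_hom h1 rfl h, MonObj.one_comp])
    obtain ⟨h', hh', hh'e⟩ := factor_V h1 (Nat.le_succ m) (Nat.add_comm 1 m) g₂ (hom_comp_R h1 rfl g₂)
    obtain ⟨ψ, hψ, hψe⟩ := exists_extend_V m h' (m + 1) (Nat.le_succ m)
    haveI := hψ
    refine ⟨WittGrp.R p B (Nat.le_succ (m + 1)) ≫ ψ, inferInstance, ?_⟩
    rw [← Category.assoc, show WittGrp.V p B (Nat.le_add_right (m + 1) 1) ≫
      WittGrp.R p B (Nat.le_succ (m + 1)) = tw p B (m + 1) from rfl, tw_eq, Category.assoc, ← hψe, hh'e, hg₂e]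

end Groth.Agent.WittHomLib
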