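import Groth.Agent.WittHomLib.Vec
import Mathlib

/-! Points and coordinate rings of the Witt group schemes. -/

set_option autoImplicit false
set_option backward.isDefEq.respectTransparency false
universe u

open CategoryTheory CategoryTheory.Limits AlgebraicGeometry Opposite MonObj MonoidalCategory CartesianMonoidalCategory

noncomputable section

namespace Groth.Agent.WittHomLib

variable {p : ℕ} [hp : Fact p.Prime] {S : Scheme.{u}}

/-- The Witt vector of a point. -/
def vec {n : ℕ} {T : Over S} (x : T ⟶ WittGrp.W p n S) : TruncatedWittVector p n Γ(T.left, ⊤) :=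
  WittGrp.pts p T (Additive.ofMul x)

/-- The point of a Witt vector. -/
def ofVec {n : ℕ} {T : Over S} (v : TruncatedWittVector p n Γ(T.left, ⊤)) : T ⟶ WittGrp.W p n S :=
  (WittGrp.ptsMul p T).symm (Multiplicative.ofAdd v)

theorem vec_ofVec {n : ℕ} {T : Over S} (v : TruncatedWittVector p n Γ(T.left, ⊤)) : vec (ofVec v) = v := by
  show Multiplicative.toAdd ((WittGrp.ptsMul p T) ((WittGrp.ptsMul p T).symm _)) = v
  rw [MulEquiv.apply_symm_apply, toAdd_ofAdd]

theorem vec_injective {n : ℕ} {T : Over S} : Function.Injective (vec (p := p) (n := n) (T := T)) :=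
  WittGrp.pts_injective p T

theorem vec_mul {n : ℕ} {T : Over S} (x y : T ⟶ WittGrp.W p n S) : vec (x * y) = vec x + vec y :=
  WittGrp.pts_mul p T x y

theorem vec_one {n : ℕ} {T : Over S} : vec (1 : T ⟶ WittGrp.W p n S) = 0 :=
  WittGrp.pts_one p T

theorem vec_pow {n : ℕ} {T : Over S} (x : T ⟶ WittGrp.W p n S) (j : ℕ) : vec (x ^ j) = j • vec x := by
  rw [vec, ofMul_pow, map_nsmul]; rfl

theorem vec_comp {n : ℕ} {T T' : Over S} (g : T' ⟶ T) (x : T ⟶ WittGrp.W p n S) :
    vec (g ≫ x) = WittGrp.truncMap p n g.left.appTop.hom (vec x) := WittGrp.pts_comp p g x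

theorem coeff_vec {n : ℕ} {T : Over S} (x : T ⟶ WittGrp.W p n S) (i : Fin n) :
    (vec x).coeff i = x.left.appTop (WittGrp.coord p i) := WittGrp.coeff_pts p T x i

theorem coeff_comp {n : ℕ} {T T' : Over S} (g : T' ⟶ T) (x : T ⟶ WittGrp.W p n S) (i : Fin n) :
    (vec (g ≫ x)).coeff i = g.left.appTop ((vec x).coeff i) := by
  rw [vec_comp]; exact WittGrp.coeff_truncMap p n _ _ i

theorem vec_R {n m : ℕ} (h : n ≤ m) {T : Over S} (x : T ⟶ WittGrp.W p m S) :
    vec (x ≫ WittGrp.R p S h) = TruncatedWittVector.truncate h (vec x) := WittGrp.pts_R p h x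

theorem vec_V {n m : ℕ} (h : n ≤ m) {T : Over S} (x : T ⟶ WittGrp.W p n S) :
    vec (x ≫ WittGrp.V p S h) = WittGrp.shift p h (vec x) := WittGrp.pts_V p h x

theorem coeff_F {n : ℕ} (hpS : (p : Γ(S, ⊤)) = 0) {T : Over S} (x : T ⟶ WittGrp.W p n S) (i : Fin n) :
    (vec (x ≫ WittGrp.F p n S hpS)).coeff i = (vec x).coeff i ^ p := by
  rw [show vec (x ≫ WittGrp.F p n S hpS) = WittGrp.frob p n (WittGrp.natCast_eq_zero_of_over p hpS T) (vec x) from
    WittGrp.pts_F p hpS x, WittGrp.coeff_frob]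

theorem isMonHom_of_mul {X Y : Over S} [GrpObj X] [GrpObj Y] (g : X ⟶ Y)
    (hmul : ∀ (T : Over S) (x y : T ⟶ X), (x * y) ≫ g = (x ≫ g) * (y ≫ g)) : IsMonHom g := by
  refine WittGrp.isMonHom_of_comp_mul g ?_ hmul
  have h := hmul (𝟙_ (Over S)) 1 1
  rw [_root_.one_mul] at h
  exact mul_right_cancel (h.symm.trans (_root_.one_mul _).symm)

theorem cancel_V {n N : ℕ} (h : n ≤ N) {T : Over S} {x y : T ⟶ WittGrp.W p n S}
    (e : x ≫ WittGrp.V p S h = y ≫ WittGrp.V p S h) : x = y :=
  vec_injective (shift_inj h (by rw [← vec_V, ← vec_V, e]))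

/-- Points killed by the restriction come from the shift. -/
theorem exists_comp_V {a b N : ℕ} (ha : a ≤ N) (hb : b ≤ N) (hab : a + b = N) {T : Over S}
    (x : T ⟶ WittGrp.W p N S) (hx : x ≫ WittGrp.R p S ha = 1) : ∃ y, y ≫ WittGrp.V p S hb = x := by
  have h := congrArg vec hx
  rw [vec_R, vec_one, truncate_eq_zero_iff] at h
  obtain ⟨v, hv⟩ := exists_shift hb hab _ h
  exact ⟨ofVec v, vec_injective (by rw [vec_V, vec_ofVec, hv])⟩

theorem comp_V_comp_R {a b N : ℕ} (ha : a ≤ N) (hb : b ≤ N) (hab : a + b = N) {T : Over S}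
    (y : T ⟶ WittGrp.W p b S) : (y ≫ WittGrp.V p S hb) ≫ WittGrp.R p S ha = 1 :=
  vec_injective (by rw [vec_R, vec_V, vec_one, truncate_shift ha hb hab])

/-- The first `a` coordinates. -/
def pad {a N : ℕ} : WittGrp.W p a S ⟶ WittGrp.W p N S :=
  ofVec (TruncatedWittVector.mk p fun i => if h : (i : ℕ) < a then WittGrp.coord p ⟨i, h⟩ else 0)

theorem pad_R {a N : ℕ} (ha : a ≤ N) : pad ≫ WittGrp.R p S ha = 𝟙 (WittGrp.W p a S) := by
  refine vec_injective (TruncatedWittVector.ext fun i => ?_)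
  rw [vec_R, TruncatedWittVector.coeff_truncate, pad, vec_ofVec, TruncatedWittVector.coeff_mk,
    dif_pos (show ((Fin.castLE ha i : Fin N) : ℕ) < a from i.isLt), coeff_vec]
  show _ = (𝟙 (WittGrp.W p a S).left : (WittGrp.W p a S).left ⟶ _).appTop (WittGrp.coord p i)
  rw [Scheme.Hom.id_appTop]
  rfl

/-- The pair of points, as one point of a bigger affine space. -/
def catPt {n : ℕ} {T : Over S} (x y : T ⟶ WittGrp.W p n S) : T ⟶ WittGrp.W p (n + n) S :=
  ofVec (TruncatedWittVector.mk p (Fin.append (vec x).coeff (vec y).coeff))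

/-- The first projection. -/
def pr₁ (n : ℕ) : WittGrp.W p (n + n) S ⟶ WittGrp.W p n S :=
  ofVec (TruncatedWittVector.mk p fun i => WittGrp.coord p (Fin.castAdd n i))

/-- The second projection. -/
def pr₂ (n : ℕ) : WittGrp.W p (n + n) S ⟶ WittGrp.W p n S :=
  ofVec (TruncatedWittVector.mk p fun i => WittGrp.coord p (Fin.natAdd n i))

theorem catPt_pr₁ {n : ℕ} {T : Over S} (x y : T ⟶ WittGrp.W p n S) : catPt x y ≫ pr₁ n = x := by
  refine vec_injective (TruncatedWittVector.ext fun i => ?_)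
  rw [coeff_comp, pr₁, vec_ofVec, TruncatedWittVector.coeff_mk, ← coeff_vec, catPt, vec_ofVec,
    TruncatedWittVector.coeff_mk, Fin.append_left]

theorem catPt_pr₂ {n : ℕ} {T : Over S} (x y : T ⟶ WittGrp.W p n S) : catPt x y ≫ pr₂ n = y := by
  refine vec_injective (TruncatedWittVector.ext fun i => ?_)
  rw [coeff_comp, pr₂, vec_ofVec, TruncatedWittVector.coeff_mk, ← coeff_vec, catPt, vec_ofVec,
    TruncatedWittVector.coeff_mk, Fin.append_right]

/-- A map out of `W_n` is a homomorphism as soon as it is one on the universal pair of points. -/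
theorem isMonHom_of_pr {n : ℕ} {Y : Over S} [GrpObj Y] (g : WittGrp.W p n S ⟶ Y)
    (h : (pr₁ n * pr₂ n : WittGrp.W p (n + n) S ⟶ WittGrp.W p n S) ≫ g = (pr₁ n ≫ g) * (pr₂ n ≫ g)) :
    IsMonHom g :=
  isMonHom_of_mul g fun T x y => by
    have h' := congrArg (catPt x y ≫ ·) h
    simpa only [← Category.assoc, MonObj.comp_mul, catPt_pr₁, catPt_pr₂] using h'

section Field

variable {k : Type u} [Field k]

local notation "B" => Spec (CommRingCat.of k)

/-- The coordinate ring of `W_n` over a field is a polynomial ring. -/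
def coordEquiv (p : ℕ) [Fact p.Prime] (n : ℕ) (k : Type u) [Field k] :
    Γ((WittGrp.W p n (Spec (CommRingCat.of k))).left, ⊤) ≅ CommRingCat.of (MvPolynomial (ULift.{u} (Fin n)) k) :=
  haveI := (AffineSpace.SpecIso (ULift.{u} (Fin n)) (CommRingCat.of k)).isIso_inv
  (asIso (AffineSpace.SpecIso (ULift.{u} (Fin n)) (CommRingCat.of k)).inv.appTop :
    Γ((WittGrp.W p n (Spec (CommRingCat.of k))).left, ⊤) ≅ _) ≪≫ Scheme.ΓSpecIso _

theorem coordEquiv_coord (n : ℕ) (i : Fin n) :
    (coordEquiv p n k).hom (WittGrp.coord p i) = MvPolynomial.X (ULift.up i) := by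
  show (Scheme.ΓSpecIso _).hom ((AffineSpace.SpecIso (ULift.{u} (Fin n)) (CommRingCat.of k)).inv.appTop
    (AffineSpace.coord _ (ULift.up i))) = _
  erw [AffineSpace.SpecIso_inv_appTop_coord]
  exact (Scheme.ΓSpecIso _).commRingCatIsoToRingEquiv.apply_symm_apply _

/-- The constants in the coordinate ring. -/
theorem coordEquiv_const (n : ℕ) (c : k) :
    (coordEquiv p n k).hom ((WittGrp.W p n B).hom.appTop ((Scheme.ΓSpecIso (CommRingCat.of k)).inv c)) =
      MvPolynomial.C c := by
  show (Scheme.ΓSpecIso _).hom ((AffineSpace.SpecIso (ULift.{u} (Fin n)) (CommRingCat.of k)).inv.appTop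
    ((𝔸(ULift.{u} (Fin n); B) ↘ B).appTop _)) = _
  have h : (𝔸(ULift.{u} (Fin n); B) ↘ B).appTop ≫
      (AffineSpace.SpecIso (ULift.{u} (Fin n)) (CommRingCat.of k)).inv.appTop =
      (Spec.map (CommRingCat.ofHom (MvPolynomial.C : k →+* MvPolynomial (ULift.{u} (Fin n)) k))).appTop := by
    rw [← Scheme.Hom.comp_appTop, AffineSpace.SpecIso_inv_over]
  refine (congrArg (Scheme.ΓSpecIso _).hom (ConcreteCategory.congr_hom h _)).trans ?_
  refine (ConcreteCategory.congr_hom (Scheme.ΓSpecIso_naturality (CommRingCat.ofHom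
    (MvPolynomial.C : k →+* MvPolynomial (ULift.{u} (Fin n)) k))) _).trans ?_
  exact congrArg MvPolynomial.C ((Scheme.ΓSpecIso (CommRingCat.of k)).commRingCatIsoToRingEquiv.apply_symm_apply c)

theorem isReduced_coord (n : ℕ) : IsReduced Γ((WittGrp.W p n B).left, ⊤) :=
  isReduced_of_injective (coordEquiv p n k).hom.hom (coordEquiv p n k).commRingCatIsoToRingEquiv.injective

variable (k) in
/-- The endomorphism raising all coordinates to the power `q`. -/
def powPt (n q : ℕ) : WittGrp.W p n B ⟶ WittGrp.W p n B :=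
  ofVec (TruncatedWittVector.mk p fun i => WittGrp.coord p i ^ q)

theorem coordEquiv_powPt (n q : ℕ) (u : Γ((WittGrp.W p n B).left, ⊤)) :
    (coordEquiv p n k).hom ((powPt (p := p) k n q).left.appTop u) = MvPolynomial.expand q ((coordEquiv p n k).hom u) := by
  obtain ⟨P, rfl⟩ := (coordEquiv p n k).commRingCatIsoToRingEquiv.symm.surjective u
  have key : ((coordEquiv p n k).hom.hom.comp ((powPt (p := p) k n q).left.appTop.hom.comp (coordEquiv p n k).inv.hom)) =
      (MvPolynomial.expand q : MvPolynomial (ULift.{u} (Fin n)) k →ₐ[k] _).toRingHom := by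
    refine MvPolynomial.ringHom_ext (fun c => ?_) fun i => ?_
    · have hc : (coordEquiv p n k).inv (MvPolynomial.C c) =
          (WittGrp.W p n B).hom.appTop ((Scheme.ΓSpecIso (CommRingCat.of k)).inv c) := by
        rw [← coordEquiv_const (p := p)]
        exact (coordEquiv p n k).commRingCatIsoToRingEquiv.symm_apply_apply _
      show (coordEquiv p n k).hom ((powPt (p := p) k n q).left.appTop ((coordEquiv p n k).inv (MvPolynomial.C c))) = _
      rw [hc, ← CommRingCat.comp_apply (WittGrp.W p n B).hom.appTop, ← Scheme.Hom.comp_appTop, Over.w, coordEquiv_const]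
      exact (MvPolynomial.expand_C q c).symm
    · obtain ⟨i⟩ := i
      have hX : (coordEquiv p n k).inv (MvPolynomial.X (ULift.up i)) = WittGrp.coord p i := by
        rw [← coordEquiv_coord (p := p)]
        exact (coordEquiv p n k).commRingCatIsoToRingEquiv.symm_apply_apply _
      show (coordEquiv p n k).hom ((powPt (p := p) k n q).left.appTop ((coordEquiv p n k).inv (MvPolynomial.X (ULift.up i)))) = _
      rw [hX, ← coeff_vec, powPt, vec_ofVec, TruncatedWittVector.coeff_mk, map_pow, coordEquiv_coord]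
      exact (MvPolynomial.expand_X q _).symm
  have h := RingHom.congr_fun key P
  have e : (coordEquiv p n k).hom ((coordEquiv p n k).inv P) = P :=
    (coordEquiv p n k).commRingCatIsoToRingEquiv.apply_symm_apply P
  exact h.trans (congrArg (MvPolynomial.expand q) e.symm)

theorem powPt_injective {n q : ℕ} (hq : 0 < q) : Function.Injective (powPt (p := p) k n q).left.appTop := by
  intro u v h
  refine (coordEquiv p n k).commRingCatIsoToRingEquiv.injective (MvPolynomial.expand_injective hq ?_)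
  show MvPolynomial.expand q ((coordEquiv p n k).hom u) = MvPolynomial.expand q ((coordEquiv p n k).hom v)
  rw [← coordEquiv_powPt, ← coordEquiv_powPt, h]

theorem cancel_powPt {n N q : ℕ} (hq : 0 < q) {x y : WittGrp.W p n B ⟶ WittGrp.W p N B}
    (h : powPt k n q ≫ x = powPt k n q ≫ y) : x = y :=
  vec_injective (TruncatedWittVector.ext fun i => powPt_injective hq (by rw [← coeff_comp, h, coeff_comp]))

theorem powPt_pr₁ (n q : ℕ) : powPt k (n + n) q ≫ pr₁ n = pr₁ n ≫ powPt (p := p) k n q := by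
  refine vec_injective (TruncatedWittVector.ext fun i => ?_)
  rw [coeff_comp, coeff_comp, pr₁, vec_ofVec, TruncatedWittVector.coeff_mk, ← coeff_vec, powPt, powPt, vec_ofVec,
    vec_ofVec, TruncatedWittVector.coeff_mk, TruncatedWittVector.coeff_mk, map_pow, ← coeff_vec, vec_ofVec,
    TruncatedWittVector.coeff_mk]

theorem powPt_pr₂ (n q : ℕ) : powPt k (n + n) q ≫ pr₂ n = pr₂ n ≫ powPt (p := p) k n q := by
  refine vec_injective (TruncatedWittVector.ext fun i => ?_)
  rw [coeff_comp, coeff_comp, pr₂, vec_ofVec, TruncatedWittVector.coeff_mk, ← coeff_vec, powPt, powPt, vec_ofVec,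
    vec_ofVec, TruncatedWittVector.coeff_mk, TruncatedWittVector.coeff_mk, map_pow, ← coeff_vec, vec_ofVec,
    TruncatedWittVector.coeff_mk]

theorem F_eq_powPt (n : ℕ) (hpS : (p : Γ(B, ⊤)) = 0) : WittGrp.F p n B hpS = powPt k n p := by
  refine vec_injective (TruncatedWittVector.ext fun i => ?_)
  rw [← Category.id_comp (WittGrp.F p n B hpS), coeff_F, coeff_vec, powPt, vec_ofVec, TruncatedWittVector.coeff_mk]
  show (𝟙 (WittGrp.W p n B).left : (WittGrp.W p n B).left ⟶ _).appTop (WittGrp.coord p i) ^ p = _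
  rw [Scheme.Hom.id_appTop]
  rfl

end Field

end Groth.Agent.WittHomLib
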