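import Groth.Agent.WittHomLib.Vec
import Mathlib

/-! Multiplication by Teichmüller representatives in characteristic `p`. -/

set_option autoImplicit false
universe u

namespace Groth.Agent.WittHomLib

variable {p : ℕ} [hp : Fact p.Prime] {R : Type u} [CommRing R] [CharP R p]

theorem coeff_teichmuller_add_verschiebung (c : R) (w : WittVector p R) (i : ℕ) :
    (WittVector.teichmuller p c + WittVector.verschiebung w).coeff i = if i = 0 then c else w.coeff (i - 1) := by
  rw [WittVector.coeff_add_of_disjoint i]
  · rcases Nat.eq_zero_or_pos i with rfl | hi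
    · rw [WittVector.teichmuller_coeff_zero, WittVector.verschiebung_coeff_zero, add_zero, if_pos rfl]
    · obtain ⟨j, rfl⟩ : ∃ j, i = j + 1 := ⟨i - 1, by omega⟩
      rw [WittVector.teichmuller_coeff_pos p c (j + 1) hi, WittVector.verschiebung_coeff_succ, zero_add,
        if_neg (by omega), Nat.add_sub_cancel]
  · intro n
    rcases Nat.eq_zero_or_pos n with rfl | hn
    · exact Or.inr (WittVector.verschiebung_coeff_zero _)
    · exact Or.inl (WittVector.teichmuller_coeff_pos p c n hn)

theorem eq_teichmuller_add_verschiebung (y : WittVector p R) :
    y = WittVector.teichmuller p (y.coeff 0) + WittVector.verschiebung (y.shift 1) := by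
  ext i
  rw [coeff_teichmuller_add_verschiebung]
  split_ifs with h
  · rw [h]
  · rw [WittVector.shift_coeff]; congr 1; omega

theorem coeff_teichmuller_mul : ∀ (i : ℕ) (a : R) (y : WittVector p R),
    (WittVector.teichmuller p a * y).coeff i = a ^ p ^ i * y.coeff i := by
  intro i
  induction i with
  | zero => intro a y; rw [WittVector.mul_coeff_zero, WittVector.teichmuller_coeff_zero, pow_zero, pow_one]
  | succ i ih =>
    intro a y
    have h1 : WittVector.teichmuller p a * WittVector.verschiebung (y.shift 1) =
        WittVector.verschiebung (WittVector.teichmuller p (a ^ p) * y.shift 1) := by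
      rw [mul_comm (WittVector.teichmuller p (a ^ p)), map_pow]
      have h2 : WittVector.frobenius (WittVector.teichmuller p a) = WittVector.teichmuller p a ^ p := by
        rw [← map_pow]
        ext j
        rcases Nat.eq_zero_or_pos j with rfl | hj
        · rw [WittVector.coeff_frobenius_charP, WittVector.teichmuller_coeff_zero, WittVector.teichmuller_coeff_zero]
        · rw [WittVector.coeff_frobenius_charP, WittVector.teichmuller_coeff_pos p a j hj,
            WittVector.teichmuller_coeff_pos p (a ^ p) j hj, zero_pow hp.out.ne_zero]
      rw [← h2, WittVector.verschiebung_mul_frobenius, mul_comm]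
    conv_lhs => rw [eq_teichmuller_add_verschiebung y]
    rw [mul_add, h1, ← map_mul, coeff_teichmuller_add_verschiebung, if_neg (Nat.succ_ne_zero i),
      Nat.succ_sub_one, ih, WittVector.shift_coeff, Nat.add_comm 1 i, ← pow_mul, ← pow_succ']

theorem exists_mul_coeff {N : ℕ} (a : R) :
    ∃ c : TruncatedWittVector p N R, ∀ (v : TruncatedWittVector p N R) (i : Fin N),
      (c * v).coeff i = a ^ p ^ (i : ℕ) * v.coeff i := by
  refine ⟨WittVector.truncate N (WittVector.teichmuller p a), fun v i => ?_⟩
  obtain ⟨X, rfl⟩ := WittVector.truncate_surjective p N R v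
  rw [← map_mul, WittVector.coeff_truncate, WittVector.coeff_truncate, coeff_teichmuller_mul]

end Groth.Agent.WittHomLib
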