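import Groth.Agent.WittHomLib.Homs
import Groth.Agent.WittHomLib.Teich
import Groth.Agent.PPoly.Basic
import Mathlib

/-! Endomorphisms of the additive group extend to compatible endomorphisms of all Witt groups. -/

set_option autoImplicit false
set_option backward.isDefEq.respectTransparency false
universe u

open CategoryTheory CategoryTheory.Limits AlgebraicGeometry Opposite MonObj MonoidalCategory CartesianMonoidalCategory

noncomputable section

namespace Groth.Agent.WittHomLib

section Comm

variable {p : ℕ} [hp : Fact p.Prime] {S : Scheme.{u}}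

theorem isMonHom_prod {X : Over S} [GrpObj X] {N : ℕ} (f g : X ⟶ WittGrp.W p N S) [IsMonHom f] [IsMonHom g] :
    IsMonHom (f * g) :=
  isMonHom_of_mul _ fun T x y => by
    rw [MonObj.comp_mul, MonObj.comp_mul, MonObj.comp_mul, MonObj.mul_comp, MonObj.mul_comp, _root_.mul_mul_mul_comm]

theorem isMonHom_one {X : Over S} [GrpObj X] {N : ℕ} : IsMonHom (1 : X ⟶ WittGrp.W p N S) :=
  isMonHom_of_mul _ fun T x y => by simp only [MonObj.comp_one, _root_.one_mul]

theorem isMonHom_inv' {X : Over S} [GrpObj X] {N : ℕ} (f : X ⟶ WittGrp.W p N S) [IsMonHom f] : IsMonHom f⁻¹ :=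
  isMonHom_of_mul _ fun T x y => by
    rw [GrpObj.comp_inv, GrpObj.comp_inv, GrpObj.comp_inv, MonObj.mul_comp, mul_inv]

theorem subsingleton_W0 {T : Over S} (x y : T ⟶ WittGrp.W p 0 S) : x = y :=
  vec_injective (TruncatedWittVector.ext fun i => i.elim0)

/-- A family of endomorphisms compatible with all restrictions. -/
def RSys (L : ∀ N, WittGrp.W p N S ⟶ WittGrp.W p N S) : Prop :=
  (∀ N, IsMonHom (L N)) ∧ ∀ (m M : ℕ) (h : m ≤ M), WittGrp.R p S h ≫ L m = L M ≫ WittGrp.R p S h

/-- A family of endomorphisms compatible with all shifts of nonempty Witt groups. -/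
def VSys (L : ∀ N, WittGrp.W p N S ⟶ WittGrp.W p N S) : Prop :=
  (∀ N, IsMonHom (L N)) ∧ ∀ (m M : ℕ) (h : m ≤ M), L m ≫ WittGrp.V p S h = WittGrp.V p S h ≫ L M

theorem RSys.mul {L L' : ∀ N, WittGrp.W p N S ⟶ WittGrp.W p N S} (hL : RSys L) (hL' : RSys L') :
    RSys fun N => L N * L' N := by
  haveI := hL.1
  haveI := hL'.1
  refine ⟨fun N => isMonHom_prod _ _, fun m M h => ?_⟩
  rw [MonObj.comp_mul, hL.2, hL'.2, MonObj.mul_comp]

theorem VSys.mul {L L' : ∀ N, WittGrp.W p N S ⟶ WittGrp.W p N S} (hL : VSys L) (hL' : VSys L') :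
    VSys fun N => L N * L' N := by
  haveI := hL.1
  haveI := hL'.1
  refine ⟨fun N => isMonHom_prod _ _, fun m M h => ?_⟩
  rw [MonObj.mul_comp, hL.2, hL'.2, MonObj.comp_mul]

theorem RSys.one : RSys (fun N => (1 : WittGrp.W p N S ⟶ WittGrp.W p N S)) :=
  ⟨fun N => isMonHom_one, fun m M h => by simp [MonObj.comp_one, MonObj.one_comp]⟩

theorem VSys.one : VSys (fun N => (1 : WittGrp.W p N S ⟶ WittGrp.W p N S)) :=
  ⟨fun N => isMonHom_one, fun m M h => by simp [MonObj.comp_one, MonObj.one_comp]⟩

end Comm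

variable {p : ℕ} [hp : Fact p.Prime] {k : Type u} [Field k]

local notation "B" => Spec (CommRingCat.of k)

/-- Constants on a scheme over the field. -/
def ev (T : Over B) : k →+* Γ(T.left, ⊤) :=
  T.hom.appTop.hom.comp (Scheme.ΓSpecIso (CommRingCat.of k)).inv.hom

theorem appTop_ev {T T' : Over B} (g : T' ⟶ T) (c : k) : g.left.appTop (ev T c) = ev T' c := by
  show g.left.appTop (T.hom.appTop _) = T'.hom.appTop _
  rw [← CommRingCat.comp_apply T.hom.appTop, ← Scheme.Hom.comp_appTop, Over.w]

theorem coordEquiv_ev (n : ℕ) (c : k) : (coordEquiv p n k).hom (ev (WittGrp.W p n B) c) = MvPolynomial.C c :=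
  coordEquiv_const n c

variable [CharP k p]

/-- The endomorphism with components `cᵢ · Xᵢ ^ (p ^ j)`, `cᵢ = c ^ (p ^ i)`. -/
def term (N : ℕ) (c : k) (j : ℕ) : WittGrp.W p N B ⟶ WittGrp.W p N B :=
  ofVec (TruncatedWittVector.mk p fun i =>
    ev (WittGrp.W p N B) c ^ p ^ (i : ℕ) * WittGrp.coord p i ^ p ^ j)

theorem coeff_term {N : ℕ} (c : k) (j : ℕ) {T : Over B} (x : T ⟶ WittGrp.W p N B) (i : Fin N) :
    (vec (x ≫ term N c j)).coeff i = ev T c ^ p ^ (i : ℕ) * (vec x).coeff i ^ p ^ j := by
  rw [coeff_comp, term, vec_ofVec, TruncatedWittVector.coeff_mk, map_mul, map_pow, map_pow, appTop_ev, coeff_vec]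

omit [CharP k p] in
theorem coeff_iterate_frob {R : Type u} [CommRing R] (hR : (p : R) = 0) {N : ℕ} (j : ℕ)
    (v : TruncatedWittVector p N R) (i : Fin N) :
    (((WittGrp.frob p N hR)^[j]) v).coeff i = v.coeff i ^ p ^ j := by
  induction j with
  | zero => simp
  | succ j ih => rw [Function.iterate_succ_apply', WittGrp.coeff_frob, ih, ← pow_mul, ← pow_succ]

theorem isMonHom_term (N : ℕ) (c : k) (j : ℕ) : IsMonHom (term (p := p) N c j) := by
  refine isMonHom_of_pr _ (vec_injective ?_)
  haveI := charP_coord (p := p) (k := k) (N + N)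
  have hR : (p : Γ((WittGrp.W p (N + N) B).left, ⊤)) = 0 := CharP.cast_eq_zero _ p
  obtain ⟨t, ht⟩ := exists_mul_coeff (p := p) (N := N) (ev (WittGrp.W p (N + N) B) c)
  have key : ∀ x : WittGrp.W p (N + N) B ⟶ WittGrp.W p N B,
      vec (x ≫ term N c j) = t * ((WittGrp.frob p N hR)^[j]) (vec x) := fun x =>
    TruncatedWittVector.ext fun i => by rw [coeff_term, ht, coeff_iterate_frob]
  rw [vec_mul, key, key, key, vec_mul, iterate_map_add, mul_add]

theorem rSys_term (c : k) (j : ℕ) : RSys (fun N => term (p := p) N c j) := by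
  refine ⟨fun N => isMonHom_term N c j, fun m M h => vec_injective (TruncatedWittVector.ext fun i => ?_)⟩
  dsimp only
  rw [coeff_term, vec_R, TruncatedWittVector.coeff_truncate, ← Category.id_comp (term M c j), coeff_term,
    ← Category.id_comp (WittGrp.R p B h), vec_R, TruncatedWittVector.coeff_truncate]
  rfl

variable [PerfectRing k p]

theorem vSys_term (c : k) (j : ℕ) :
    VSys (fun N => term (p := p) N (((frobeniusEquiv k p).symm : k → k)^[N - 1] c) j) := by
  refine ⟨fun N => isMonHom_term N _ j, fun m M h => vec_injective (TruncatedWittVector.ext fun i => ?_)⟩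
  dsimp only
  rw [vec_V, WittGrp.coeff_shift, coeff_term, ← Category.id_comp (WittGrp.V p B h), vec_V, WittGrp.coeff_shift]
  split_ifs with hi
  · conv_lhs => rw [← Category.id_comp (term m _ j), coeff_term]
    congr 1
    have hroot : ∀ (s t : ℕ) (a : k), (((frobeniusEquiv k p).symm : k → k)^[s + t] a) ^ p ^ t =
        ((frobeniusEquiv k p).symm : k → k)^[s] a := by
      intro s t a
      induction t with
      | zero => simp
      | succ t ih =>
        rw [← Nat.add_assoc, Function.iterate_succ_apply', pow_succ', pow_mul, frobeniusEquiv_symm_pow_p]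
        exact ih
    have e : M - 1 = (m - 1) + (M - m) := by have := i.isLt; omega
    have e2 : ∀ d : k, d ^ p ^ (i : ℕ) = (d ^ p ^ (M - m)) ^ p ^ ((i : ℕ) - (M - m)) := fun d => by
      rw [← pow_mul, ← pow_add, Nat.add_sub_cancel' hi]
    rw [← map_pow, ← map_pow, e, e2, hroot]
  · rw [zero_pow (pow_ne_zero j hp.out.ne_zero), mul_zero]

/-- The point of `W₁` with a given polynomial as coordinate. -/
def polyPt (Q : MvPolynomial (ULift.{u} (Fin 1)) k) : WittGrp.W p 1 B ⟶ WittGrp.W p 1 B :=
  ofVec (TruncatedWittVector.mk p fun _ => (coordEquiv p 1 k).inv Q)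

omit [CharP k p] [PerfectRing k p] in
theorem coeff_one_add {R : Type u} [CommRing R] (u v : TruncatedWittVector p 1 R) :
    (u + v).coeff 0 = u.coeff 0 + v.coeff 0 := by
  obtain ⟨U, rfl⟩ := WittVector.truncate_surjective p 1 _ u
  obtain ⟨W, rfl⟩ := WittVector.truncate_surjective p 1 _ v
  rw [← map_add, WittVector.coeff_truncate, WittVector.coeff_truncate, WittVector.coeff_truncate]
  exact WittVector.add_coeff_zero U W

omit [PerfectRing k p] in
/-- Pull back of functions along a point is evaluation of polynomials. -/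
theorem coordEquiv_point {n N : ℕ} (x : WittGrp.W p N B ⟶ WittGrp.W p n B) (u : Γ((WittGrp.W p n B).left, ⊤)) :
    (coordEquiv p N k).hom (x.left.appTop u) =
      MvPolynomial.aeval (fun i : ULift.{u} (Fin n) => (coordEquiv p N k).hom ((vec x).coeff i.down))
        ((coordEquiv p n k).hom u) := by
  have key : ((coordEquiv p N k).hom.hom.comp (x.left.appTop.hom.comp (coordEquiv p n k).inv.hom)) =
      (MvPolynomial.aeval (fun i : ULift.{u} (Fin n) => (coordEquiv p N k).hom ((vec x).coeff i.down)) :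
        MvPolynomial (ULift.{u} (Fin n)) k →ₐ[k] MvPolynomial (ULift.{u} (Fin N)) k).toRingHom := by
    refine MvPolynomial.ringHom_ext (fun c => ?_) fun i => ?_
    · have hc : (coordEquiv p n k).inv (MvPolynomial.C c) = ev (WittGrp.W p n B) c := by
        rw [← coordEquiv_ev (p := p)]
        exact (coordEquiv p n k).commRingCatIsoToRingEquiv.symm_apply_apply _
      show (coordEquiv p N k).hom (x.left.appTop ((coordEquiv p n k).inv (MvPolynomial.C c))) = _
      rw [hc, appTop_ev, coordEquiv_ev]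
      exact (MvPolynomial.aeval_C _ c).symm
    · obtain ⟨i⟩ := i
      have hX : (coordEquiv p n k).inv (MvPolynomial.X (ULift.up i)) = WittGrp.coord p i := by
        rw [← coordEquiv_coord (p := p)]
        exact (coordEquiv p n k).commRingCatIsoToRingEquiv.symm_apply_apply _
      show (coordEquiv p N k).hom (x.left.appTop ((coordEquiv p n k).inv (MvPolynomial.X (ULift.up i)))) = _
      rw [hX, ← coeff_vec]
      rw [AlgHom.toRingHom_eq_coe, RingHom.coe_coe, MvPolynomial.aeval_X]
  obtain ⟨P, rfl⟩ := (coordEquiv p n k).commRingCatIsoToRingEquiv.symm.surjective u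
  have e : (coordEquiv p n k).hom ((coordEquiv p n k).inv P) = P :=
    (coordEquiv p n k).commRingCatIsoToRingEquiv.apply_symm_apply P
  exact (RingHom.congr_fun key P).trans (congrArg _ e.symm)

/-- Endomorphisms of the additive group come from compatible systems. -/
theorem exists_sys (φ : WittGrp.W p 1 B ⟶ WittGrp.W p 1 B) [IsMonHom φ] :
    (∃ L, RSys L ∧ L 1 = φ) ∧ ∃ L, VSys L ∧ L 1 = φ := by
  classical
  let e₁ := coordEquiv p 1 k
  have he : ∀ Q, e₁.hom (e₁.inv Q) = Q := fun Q => e₁.commRingCatIsoToRingEquiv.apply_symm_apply Q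
  let P : MvPolynomial (ULift.{u} (Fin 1)) k → Prop := fun Q =>
    (∃ L, RSys (p := p) L ∧ L 1 = polyPt Q) ∧ ∃ L, VSys (p := p) L ∧ L 1 = polyPt Q
  have padd : ∀ Q Q' : MvPolynomial (ULift.{u} (Fin 1)) k,
      (polyPt Q * polyPt Q' : WittGrp.W p 1 B ⟶ _) = polyPt (Q + Q') := fun Q Q' =>
    vec_injective (TruncatedWittVector.ext fun i => by
      obtain rfl : i = 0 := Subsingleton.elim _ _
      rw [vec_mul, coeff_one_add, polyPt, polyPt, polyPt, vec_ofVec, vec_ofVec, vec_ofVec, TruncatedWittVector.coeff_mk,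
        TruncatedWittVector.coeff_mk, TruncatedWittVector.coeff_mk, map_add])
  have hzero : P 0 := by
    have h1 : (polyPt 0 : WittGrp.W p 1 B ⟶ _) = 1 := vec_injective (TruncatedWittVector.ext fun i => by
      rw [polyPt, vec_ofVec, vec_one, TruncatedWittVector.coeff_mk, map_zero, TruncatedWittVector.coeff_zero])
    exact ⟨⟨_, RSys.one, h1.symm⟩, ⟨_, VSys.one, h1.symm⟩⟩
  have hadd : ∀ Q Q', P Q → P Q' → P (Q + Q') := by
    rintro Q Q' ⟨⟨L, hL, eL⟩, ⟨M, hM, eM⟩⟩ ⟨⟨L', hL', eL'⟩, ⟨M', hM', eM'⟩⟩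
    exact ⟨⟨_, hL.mul hL', by simp only [eL, eL', padd]⟩, ⟨_, hM.mul hM', by simp only [eM, eM', padd]⟩⟩
  have hterm : ∀ (c : k) (j : ℕ), P (MvPolynomial.monomial (Finsupp.single (ULift.up 0) (p ^ j)) c) := by
    intro c j
    have h1 : term 1 c j = polyPt (p := p) (MvPolynomial.monomial (Finsupp.single (ULift.up 0) (p ^ j)) c) :=
      vec_injective (TruncatedWittVector.ext fun i => by
        obtain rfl : i = 0 := Subsingleton.elim _ _
        refine e₁.commRingCatIsoToRingEquiv.injective ?_
        rw [term, polyPt, vec_ofVec, vec_ofVec, TruncatedWittVector.coeff_mk, TruncatedWittVector.coeff_mk]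
        show e₁.hom _ = e₁.hom _
        rw [he, map_mul, map_pow, map_pow, coordEquiv_ev, coordEquiv_coord, MvPolynomial.monomial_eq,
          Finsupp.prod_single_index (by simp)]
        simp)
    exact ⟨⟨_, rSys_term c j, h1⟩, ⟨_, vSys_term c j, h1⟩⟩
  let f := e₁.hom ((vec φ).coeff 0)
  have hφ : φ = polyPt f := vec_injective (TruncatedWittVector.ext fun i => by
    obtain rfl : i = 0 := Subsingleton.elim _ _
    rw [polyPt, vec_ofVec, TruncatedWittVector.coeff_mk]
    exact (e₁.commRingCatIsoToRingEquiv.symm_apply_apply _).symm)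
  let σ : ULift.{u} (Fin 1) ⊕ ULift.{u} (Fin 1) → ULift.{u} (Fin (1 + 1)) :=
    Sum.elim (fun _ => ⟨Fin.castAdd 1 0⟩) fun _ => ⟨Fin.natAdd 1 0⟩
  have hσ : Function.Injective σ := by
    rintro (⟨a⟩ | ⟨a⟩) (⟨b⟩ | ⟨b⟩) h <;> simp_all [σ, Subsingleton.elim a b, Fin.ext_iff]
  have hadd_f : PPoly.IsAdd f := by
    refine MvPolynomial.rename_injective σ hσ ?_
    have h := congrArg (fun z => (coordEquiv p (1 + 1) k).hom ((vec z).coeff 0))
      (MonObj.mul_comp (pr₁ (p := p) (S := B) 1) (pr₂ 1) φ)
    simp only [vec_mul, coeff_one_add, coeff_comp, map_add] at h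
    rw [coordEquiv_point, coordEquiv_point, coordEquiv_point] at h
    simp only [vec_mul, pr₁, pr₂, vec_ofVec, TruncatedWittVector.coeff_mk,
      fun i : ULift.{u} (Fin 1) => Subsingleton.elim i.down 0, coeff_one_add, map_add, coordEquiv_coord] at h
    rw [map_add, MvPolynomial.rename_rename, MvPolynomial.rename_rename, ← AlgHom.comp_apply,
      MvPolynomial.comp_aeval]
    refine Eq.trans ?_ (h.trans ?_)
    · congr 1
      congr 1
      funext i
      obtain rfl : i = ULift.up 0 := Subsingleton.elim _ _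
      simp only [map_add, MvPolynomial.rename_X]
      exact congrArg₂ (· + ·) (coordEquiv_coord (p := p) (1 + 1) (Fin.castAdd 1 0)).symm
        (coordEquiv_coord (p := p) (1 + 1) (Fin.natAdd 1 0)).symm
    · have hren : ∀ a : Fin (1 + 1), (MvPolynomial.rename (fun _ : ULift.{u} (Fin 1) => (ULift.up a : ULift.{u} (Fin (1 + 1))))) f =
          MvPolynomial.aeval (fun _ : ULift.{u} (Fin 1) => (coordEquiv p (1 + 1) k).hom (WittGrp.coord p a)) f := by
        intro a
        rw [coordEquiv_coord]
        refine DFunLike.congr_fun (?_ : (MvPolynomial.rename _ : MvPolynomial (ULift.{u} (Fin 1)) k →ₐ[k] _) = _) f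
        exact MvPolynomial.algHom_ext fun i => by simp
      exact congrArg₂ (· + ·) (hren (Fin.castAdd 1 0)).symm (hren (Fin.natAdd 1 0)).symm
  have hf0 : MvPolynomial.constantCoeff f = 0 := by
    have h := congrArg MvPolynomial.constantCoeff hadd_f
    rw [map_add, MvPolynomial.constantCoeff_rename, MvPolynomial.constantCoeff_rename] at h
    have h2 : MvPolynomial.constantCoeff (MvPolynomial.aeval (fun i =>
        (MvPolynomial.X (Sum.inl i) + MvPolynomial.X (Sum.inr i) :
          MvPolynomial (ULift.{u} (Fin 1) ⊕ ULift.{u} (Fin 1)) k)) f) = MvPolynomial.constantCoeff f := by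
      induction f using MvPolynomial.induction_on with
      | C a => simp
      | add a b ha hb => simp only [map_add, ha, hb]
      | mul_X a i ha => simp only [map_mul, map_add, ha, MvPolynomial.aeval_X, MvPolynomial.constantCoeff_X, add_zero]
    rw [h2] at h
    exact (add_eq_left.mp h.symm)
  suffices h : P f by rw [hφ]; exact h
  rw [f.as_sum]
  refine Finset.sum_induction _ P hadd hzero fun m hm => ?_
  obtain ⟨i, j, rfl⟩ := PPoly.single_of_isAdd (p := p) hadd_f hf0 m hm
  obtain rfl : i = ULift.up 0 := Subsingleton.elim _ _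
  exact hterm _ j

end Groth.Agent.WittHomLib
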