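import Groth.Agent.WittHomLib.EndoOne
import Mathlib

/-! Endomorphisms of Witt groups lift along restrictions and extend along shifts. -/

set_option autoImplicit false
set_option backward.isDefEq.respectTransparency false
universe u

open CategoryTheory CategoryTheory.Limits AlgebraicGeometry Opposite MonObj MonoidalCategory CartesianMonoidalCategory

noncomputable section

namespace Groth.Agent.WittHomLib

section General

variable {p : ℕ} [hp : Fact p.Prime] {S : Scheme.{u}}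

theorem coeff_R {n m : ℕ} (h : n ≤ m) {T : Over S} (x : T ⟶ WittGrp.W p m S) (i : Fin n) :
    (vec (x ≫ WittGrp.R p S h)).coeff i = (vec x).coeff ⟨i, i.isLt.trans_le h⟩ := by
  rw [vec_R, TruncatedWittVector.coeff_truncate]
  rfl

theorem coeff_V {n m : ℕ} (h : n ≤ m) {T : Over S} (x : T ⟶ WittGrp.W p n S) (i : Fin m) :
    (vec (x ≫ WittGrp.V p S h)).coeff i =
      if hi : m - n ≤ (i : ℕ) then (vec x).coeff ⟨i - (m - n), by omega⟩ else 0 := by
  rw [vec_V, WittGrp.coeff_shift]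

theorem R_comp {a b c : ℕ} (h : a ≤ b) (h' : b ≤ c) :
    WittGrp.R p S h' ≫ WittGrp.R p S h = WittGrp.R p S (h.trans h') :=
  vec_injective (TruncatedWittVector.ext fun i => by
    rw [coeff_R, ← Category.id_comp (WittGrp.R p S h'), coeff_R, ← Category.id_comp (WittGrp.R p S (h.trans h')),
      coeff_R])

theorem V_comp {a b c : ℕ} (h : a ≤ b) (h' : b ≤ c) :
    WittGrp.V p S h ≫ WittGrp.V p S h' = WittGrp.V p S (h.trans h') := by
  refine vec_injective (TruncatedWittVector.ext fun i => ?_)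
  rw [coeff_V, ← Category.id_comp (WittGrp.V p S (h.trans h')), coeff_V]
  split_ifs with h1 h2 h3
  · rw [← Category.id_comp (WittGrp.V p S h), coeff_V, dif_pos (show b - a ≤ (i : ℕ) - (c - b) by omega)]
    congr 1
    exact Fin.ext (show (i : ℕ) - (c - b) - (b - a) = i - (c - a) by omega)
  · rw [← Category.id_comp (WittGrp.V p S h), coeff_V, dif_neg (show ¬ b - a ≤ (i : ℕ) - (c - b) by omega)]
  · omega
  · rfl

variable (p S) in
/-- The shift followed by the restriction, as an endomorphism. -/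
def tw (N : ℕ) : WittGrp.W p N S ⟶ WittGrp.W p N S :=
  WittGrp.V p S (Nat.le_succ N) ≫ WittGrp.R p S (Nat.le_succ N)

instance isMonHom_tw (N : ℕ) : IsMonHom (tw p S N) :=
  inferInstanceAs (IsMonHom (WittGrp.V p S (Nat.le_succ N) ≫ WittGrp.R p S (Nat.le_succ N)))

theorem tw_R {n N : ℕ} (h : n + 1 ≤ N) :
    WittGrp.R p S ((Nat.le_succ n).trans h) ≫ WittGrp.V p S (Nat.le_succ n) = tw p S N ≫ WittGrp.R p S h := by
  refine vec_injective (TruncatedWittVector.ext fun i => ?_)
  rw [coeff_V, coeff_R, ← Category.id_comp (WittGrp.R p S ((Nat.le_succ n).trans h)), tw,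
    ← Category.id_comp (WittGrp.V p S (Nat.le_succ N)), Category.assoc, ← Category.assoc (𝟙 _), coeff_R, coeff_V]
  split_ifs with h1 h2 h3
  · rw [coeff_R]
    congr 1
    exact Fin.ext (show (i : ℕ) - (n + 1 - n) = i - (N + 1 - N) by omega)
  · change ¬ N + 1 - N ≤ (i : ℕ) at h2; omega
  · change N + 1 - N ≤ (i : ℕ) at h3; omega
  · rfl

theorem tw_V {n N : ℕ} (h : n + 1 ≤ N) :
    WittGrp.R p S (Nat.le_succ n) ≫ WittGrp.V p S ((Nat.le_succ n).trans h) = WittGrp.V p S h ≫ tw p S N := by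
  refine vec_injective (TruncatedWittVector.ext fun i => ?_)
  rw [coeff_V, tw, ← Category.assoc, coeff_R, coeff_V]
  dsimp only
  split_ifs with h1 h2
  · rw [← Category.id_comp (WittGrp.R p S (Nat.le_succ n)), coeff_R, ← Category.id_comp (WittGrp.V p S h), coeff_V]
    dsimp only
    rw [dif_pos (show N - (n + 1) ≤ (i : ℕ) - (N + 1 - N) by omega)]
    congr 1
    exact Fin.ext (show (i : ℕ) - (N - n) = i - (N + 1 - N) - (N - (n + 1)) by omega)
  · omega
  · rw [← Category.id_comp (WittGrp.V p S h), coeff_V]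
    dsimp only
    rw [dif_neg (show ¬ N - (n + 1) ≤ (i : ℕ) - (N + 1 - N) by omega)]
  · rfl

theorem factor_R {a b N : ℕ} (ha : a ≤ N) (hb : b ≤ N) (hab : a + b = N) {Y : Over S} [GrpObj Y]
    (f : WittGrp.W p N S ⟶ Y) [IsMonHom f] (hV : WittGrp.V p S hb ≫ f = 1) :
    ∃ g : WittGrp.W p a S ⟶ Y, IsMonHom g ∧ WittGrp.R p S ha ≫ g = f := by
  have hker : ∀ {T : Over S} (x y : T ⟶ WittGrp.W p N S),
      x ≫ WittGrp.R p S ha = y ≫ WittGrp.R p S ha → x ≫ f = y ≫ f := by
    intro T x y h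
    obtain ⟨w, hw⟩ := exists_comp_V ha hb hab (x * y⁻¹) (by
      rw [MonObj.mul_comp, GrpObj.inv_comp, h, mul_inv_cancel])
    have h2 : (x * y⁻¹) ≫ f = 1 := by rw [← hw, Category.assoc, hV, MonObj.comp_one]
    rwa [MonObj.mul_comp, GrpObj.inv_comp, mul_inv_eq_one] at h2
  have hs : (pad : WittGrp.W p a S ⟶ WittGrp.W p N S) ≫ WittGrp.R p S ha = 𝟙 _ := pad_R ha
  refine ⟨pad ≫ f, isMonHom_of_mul _ fun T x y => ?_, ?_⟩
  · rw [← Category.assoc, ← Category.assoc, ← Category.assoc, ← MonObj.mul_comp]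
    refine hker _ _ ?_
    rw [Category.assoc, hs, Category.comp_id, MonObj.mul_comp, Category.assoc, Category.assoc, hs, Category.comp_id,
      Category.comp_id]
  · rw [← Category.assoc]
    conv_rhs => rw [← Category.id_comp f]
    exact hker _ _ (by rw [Category.assoc, hs, Category.comp_id, Category.id_comp])

theorem factor_V {a b N : ℕ} (ha : a ≤ N) (hb : b ≤ N) (hab : a + b = N) {X : Over S} [GrpObj X]
    (f : X ⟶ WittGrp.W p N S) [IsMonHom f] (hR : f ≫ WittGrp.R p S ha = 1) :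
    ∃ h : X ⟶ WittGrp.W p b S, IsMonHom h ∧ h ≫ WittGrp.V p S hb = f := by
  obtain ⟨w, hw⟩ := exists_comp_V ha hb hab f hR
  refine ⟨w, isMonHom_of_mul _ fun T x y => cancel_V hb ?_, hw⟩
  rw [Category.assoc, hw, MonObj.mul_comp, MonObj.mul_comp, Category.assoc, Category.assoc, hw]

end General

variable {p : ℕ} [hp : Fact p.Prime] {k : Type u} [Field k] [CharP k p]

local notation "B" => Spec (CommRingCat.of k)

theorem id_pow_eq_one (a : ℕ) : (𝟙 (WittGrp.W p a B)) ^ (p ^ a) = 1 := by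
  haveI := charP_coord (p := p) (k := k) a
  refine vec_injective (TruncatedWittVector.ext fun i => ?_)
  rw [vec_pow, vec_one, coeff_pow_nsmul, dif_neg (by omega), TruncatedWittVector.coeff_zero]

/-- A homomorphism to a shorter Witt group kills the image of the shift. -/
theorem V_comp_hom {a b N : ℕ} (hb : b ≤ N) (hab : a + b = N)
    (f : WittGrp.W p N B ⟶ WittGrp.W p a B) [IsMonHom f] : WittGrp.V p B hb ≫ f = 1 := by
  haveI := charP_coord (p := p) (k := k) b
  refine cancel_powPt (q := p ^ a) (pow_pos hp.out.pos a) ?_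
  let z : WittGrp.W p b B ⟶ WittGrp.W p N B := pad
  have hz : powPt k b (p ^ a) ≫ WittGrp.V p B hb = z ^ (p ^ a) := by
    refine vec_injective (TruncatedWittVector.ext fun i => ?_)
    rw [coeff_V, vec_pow, coeff_pow_nsmul]
    by_cases hi : a ≤ (i : ℕ)
    · rw [dif_pos hi, dif_pos (by omega), powPt, vec_ofVec, TruncatedWittVector.coeff_mk]
      simp only [z, pad, vec_ofVec, TruncatedWittVector.coeff_mk]
      rw [dif_pos (by omega)]
      congr 2
      exact Fin.ext (show (i : ℕ) - (N - b) = i - a by omega)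
    · rw [dif_neg hi, dif_neg (by omega)]
  rw [← Category.assoc, hz, MonObj.pow_comp, MonObj.comp_one]
  rw [← Category.comp_id (z ≫ f), ← MonObj.comp_pow, id_pow_eq_one, MonObj.comp_one]

/-- A homomorphism from a shorter Witt group lands in the image of the shift. -/
theorem hom_comp_R {a b N : ℕ} (hb : b ≤ N) (hab : a + b = N)
    (f : WittGrp.W p a B ⟶ WittGrp.W p N B) [IsMonHom f] : f ≫ WittGrp.R p B hb = 1 := by
  haveI := charP_coord (p := p) (k := k) a
  haveI := isReduced_coord (p := p) (k := k) a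
  have hf : f ^ (p ^ a) = 1 := by
    rw [← Category.id_comp f, ← MonObj.pow_comp, id_pow_eq_one, MonObj.one_comp]
  refine vec_injective (TruncatedWittVector.ext fun i => ?_)
  rw [coeff_R, vec_one, TruncatedWittVector.coeff_zero]
  have h := congrArg (fun z => (vec z).coeff (⟨(i : ℕ) + a, by omega⟩ : Fin N)) hf
  simp only [vec_pow, vec_one, TruncatedWittVector.coeff_zero] at h
  rw [coeff_pow_nsmul, dif_pos (Nat.le_add_left a (i : ℕ))] at h
  simp only [Nat.add_sub_cancel] at h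
  exact IsNilpotent.eq_zero ⟨p ^ a, h⟩

variable [PerfectRing k p]

/-- Every endomorphism of a Witt group lifts to every longer one along the restriction. -/
theorem exists_lift_R : ∀ (n : ℕ) (φ : WittGrp.W p n B ⟶ WittGrp.W p n B) [IsMonHom φ] (N : ℕ) (h : n ≤ N),
    ∃ ψ : WittGrp.W p N B ⟶ WittGrp.W p N B, IsMonHom ψ ∧ WittGrp.R p B h ≫ φ = ψ ≫ WittGrp.R p B h := by
  intro n
  induction n with
  | zero => exact fun φ _ N h => ⟨1, isMonHom_one, subsingleton_W0 _ _⟩
  | succ n ih =>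
    intro φ _ N h
    have h1 : 1 ≤ n + 1 := Nat.le_add_left 1 n
    obtain ⟨g, hg, hgφ⟩ := factor_R h1 (Nat.le_succ n) (Nat.add_comm 1 n) (φ ≫ WittGrp.R p B h1)
      (V_comp_hom (Nat.le_succ n) (Nat.add_comm 1 n) _)
    obtain ⟨L, hL, hL1⟩ := (exists_sys g).1
    haveI := hL.1
    haveI := isMonHom_inv' (L (n + 1))
    haveI := isMonHom_prod φ (L (n + 1))⁻¹
    obtain ⟨h₀, hh₀, hh₀e⟩ := factor_V h1 (Nat.le_succ n) (Nat.add_comm 1 n) (φ * (L (n + 1))⁻¹) (by
      rw [MonObj.mul_comp, GrpObj.inv_comp, ← hgφ, ← hL.2 1 (n + 1) h1, hL1, mul_inv_cancel])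
    obtain ⟨h', hh', hh'e⟩ := factor_R (Nat.le_succ n) h1 rfl h₀ (V_comp_hom h1 rfl _)
    obtain ⟨h'', hh'', hh''e⟩ := ih h' N ((Nat.le_succ n).trans h)
    haveI := hh''
    refine ⟨L N * (h'' ≫ tw p B N), isMonHom_prod _ _, ?_⟩
    rw [MonObj.mul_comp, ← hL.2 (n + 1) N h, Category.assoc, ← tw_R h, ← Category.assoc, ← hh''e, Category.assoc,
      ← R_comp (Nat.le_succ n) h, Category.assoc, reassoc_of% hh'e, hh₀e, ← MonObj.comp_mul,
      mul_inv_cancel_comm_assoc]

/-- Every endomorphism of a Witt group extends to every longer one along the shift. -/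
theorem exists_extend_V : ∀ (n : ℕ) (φ : WittGrp.W p n B ⟶ WittGrp.W p n B) [IsMonHom φ] (N : ℕ) (h : n ≤ N),
    ∃ ψ : WittGrp.W p N B ⟶ WittGrp.W p N B, IsMonHom ψ ∧ φ ≫ WittGrp.V p B h = WittGrp.V p B h ≫ ψ := by
  intro n
  induction n with
  | zero =>
    refine fun φ _ N h => ⟨1, isMonHom_one, ?_⟩
    rw [MonObj.comp_one, show φ = 1 from subsingleton_W0 _ _, MonObj.one_comp]
  | succ n ih =>
    intro φ _ N h
    have h1 : 1 ≤ n + 1 := Nat.le_add_left 1 n
    obtain ⟨g, hg, hgφ⟩ := factor_V (Nat.le_succ n) h1 rfl (WittGrp.V p B h1 ≫ φ)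
      (hom_comp_R (Nat.le_succ n) (Nat.add_comm 1 n) _)
    obtain ⟨L, hL, hL1⟩ := (exists_sys g).2
    haveI := hL.1
    haveI := isMonHom_inv' (L (n + 1))
    haveI := isMonHom_prod φ (L (n + 1))⁻¹
    obtain ⟨h₀, hh₀, hh₀e⟩ := factor_R (Nat.le_succ n) h1 rfl (φ * (L (n + 1))⁻¹) (by
      rw [MonObj.comp_mul, GrpObj.comp_inv, ← hgφ, ← hL.2 1 (n + 1) h1, hL1, mul_inv_cancel])
    obtain ⟨h', hh', hh'e⟩ := factor_V h1 (Nat.le_succ n) (Nat.add_comm 1 n) h₀ (hom_comp_R h1 rfl _)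
    obtain ⟨h'', hh'', hh''e⟩ := ih h' N ((Nat.le_succ n).trans h)
    haveI := hh''
    refine ⟨L N * (tw p B N ≫ h''), isMonHom_prod _ _, ?_⟩
    rw [MonObj.comp_mul, ← hL.2 (n + 1) N h, ← Category.assoc, ← tw_V h, Category.assoc, ← hh''e,
      ← V_comp (Nat.le_succ n) h, reassoc_of% hh'e, reassoc_of% hh₀e, ← MonObj.mul_comp, mul_inv_cancel_comm_assoc]

end Groth.Agent.WittHomLib
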