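import Groth.Agent.WittHomLib.Points
import Mathlib

/-! Homomorphisms between Witt groups and the additive group. -/

set_option autoImplicit false
set_option backward.isDefEq.respectTransparency false
universe u

open CategoryTheory CategoryTheory.Limits AlgebraicGeometry Opposite MonObj MonoidalCategory CartesianMonoidalCategory

noncomputable section

namespace Groth.Agent.WittHomLib

variable {p : ℕ} [hp : Fact p.Prime] {k : Type u} [Field k] [CharP k p]

local notation "B" => Spec (CommRingCat.of k)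

theorem charP_coord (n : ℕ) : CharP Γ((WittGrp.W p n B).left, ⊤) p :=
  (RingHom.charP_iff (coordEquiv p n k).hom.hom (coordEquiv p n k).commRingCatIsoToRingEquiv.injective p).mpr
    inferInstance

theorem hom_from_W1 {m n : ℕ} (hm : 0 < m) (f : WittGrp.W p 1 B ⟶ WittGrp.W p (m + n) B) [IsMonHom f] :
    ∃! g : WittGrp.W p 1 B ⟶ WittGrp.W p m B,
      IsMonHom g ∧ g ≫ WittGrp.V p B (Nat.le_add_right m n) = f := by
  haveI := charP_coord (p := p) (k := k) 1
  haveI := isReduced_coord (p := p) (k := k) 1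
  have hid : (𝟙 (WittGrp.W p 1 B)) ^ p = 1 := by
    refine vec_injective (TruncatedWittVector.ext fun i => ?_)
    rw [vec_pow, vec_one, coeff_nsmul_p, dif_neg (by omega), TruncatedWittVector.coeff_zero]
  have hf : f ^ p = 1 := by
    rw [← Category.id_comp f, ← MonObj.pow_comp, hid, MonObj.one_comp]
  have hv : ∀ i : Fin (m + n), (i : ℕ) < n → (vec f).coeff i = 0 := by
    intro i hi
    have h := congrArg (fun z => (vec z).coeff (⟨(i : ℕ) + 1, by omega⟩ : Fin (m + n))) hf
    simp only [vec_pow, vec_one, TruncatedWittVector.coeff_zero] at h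
    rw [coeff_nsmul_p, dif_pos (Nat.le_add_left 1 (i : ℕ))] at h
    simp only [Nat.add_sub_cancel] at h
    exact IsNilpotent.eq_zero ⟨p, h⟩
  obtain ⟨v, hv'⟩ := exists_shift (Nat.le_add_right m n) (Nat.add_comm n m) _ hv
  have hg : ofVec v ≫ WittGrp.V p B (Nat.le_add_right m n) = f := vec_injective (by rw [vec_V, vec_ofVec, hv'])
  refine ⟨ofVec v, ⟨isMonHom_of_mul _ fun T x y => cancel_V (Nat.le_add_right m n) ?_, hg⟩, ?_⟩
  · rw [Category.assoc, hg, MonObj.mul_comp, MonObj.mul_comp, Category.assoc, Category.assoc, hg]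
  · rintro g' ⟨-, hg'⟩
    exact cancel_V (Nat.le_add_right m n) (hg'.trans hg.symm)

theorem hom_to_W1 {m n : ℕ} (hm : 0 < m) (f : WittGrp.W p (m + n) B ⟶ WittGrp.W p 1 B) [IsMonHom f] :
    ∃! g : WittGrp.W p m B ⟶ WittGrp.W p 1 B,
      IsMonHom g ∧ WittGrp.R p B (Nat.le_add_right m n) ≫ g = f := by
  haveI := charP_coord (p := p) (k := k) n
  haveI := charP_coord (p := p) (k := k) 1
  have h1 : ∀ {T : Over B} (x : T ⟶ WittGrp.W p 1 B), x ^ (p ^ m) = 1 := by
    intro T x
    rw [← Category.comp_id x, ← MonObj.comp_pow]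
    have : (𝟙 (WittGrp.W p 1 B)) ^ (p ^ m) = 1 := by
      refine vec_injective (TruncatedWittVector.ext fun i => ?_)
      rw [vec_pow, vec_one, coeff_pow_nsmul, dif_neg (by omega), TruncatedWittVector.coeff_zero]
    rw [this, MonObj.comp_one]
  have hV : WittGrp.V p B (Nat.le_add_left n m) ≫ f = 1 := by
    refine cancel_powPt (q := p ^ m) (pow_pos hp.out.pos m) ?_
    let z : WittGrp.W p n B ⟶ WittGrp.W p (m + n) B := pad
    have hz : powPt k n (p ^ m) ≫ WittGrp.V p B (Nat.le_add_left n m) = z ^ (p ^ m) := by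
      refine vec_injective (TruncatedWittVector.ext fun i => ?_)
      rw [vec_V, vec_pow, WittGrp.coeff_shift, coeff_pow_nsmul]
      by_cases hi : m ≤ (i : ℕ)
      · rw [dif_pos hi, dif_pos (by omega), powPt, vec_ofVec, TruncatedWittVector.coeff_mk]
        simp only [z, pad, vec_ofVec, TruncatedWittVector.coeff_mk]
        rw [dif_pos (by omega)]
        congr 2
        exact Fin.ext (show (i : ℕ) - (m + n - n) = i - m by omega)
      · rw [dif_neg hi, dif_neg (by omega)]
    rw [← Category.assoc, hz, MonObj.pow_comp, h1, MonObj.comp_one]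
  let s : WittGrp.W p m B ⟶ WittGrp.W p (m + n) B := pad
  have hs : s ≫ WittGrp.R p B (Nat.le_add_right m n) = 𝟙 _ := pad_R _
  have hker : ∀ {T : Over B} (x y : T ⟶ WittGrp.W p (m + n) B),
      x ≫ WittGrp.R p B (Nat.le_add_right m n) = y ≫ WittGrp.R p B (Nat.le_add_right m n) → x ≫ f = y ≫ f := by
    intro T x y h
    obtain ⟨w, hw⟩ := exists_comp_V (Nat.le_add_right m n) (Nat.le_add_left n m) rfl (x * y⁻¹) (by
      rw [MonObj.mul_comp, GrpObj.inv_comp, h, mul_inv_cancel])
    have h2 : (x * y⁻¹) ≫ f = 1 := by rw [← hw, Category.assoc, hV, MonObj.comp_one]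
    rwa [MonObj.mul_comp, GrpObj.inv_comp, mul_inv_eq_one] at h2
  have hg : WittGrp.R p B (Nat.le_add_right m n) ≫ s ≫ f = f := by
    rw [← Category.assoc]
    conv_rhs => rw [← Category.id_comp f]
    exact hker _ _ (by rw [Category.assoc, hs, Category.comp_id, Category.id_comp])
  refine ⟨s ≫ f, ⟨isMonHom_of_mul _ fun T x y => ?_, hg⟩, ?_⟩
  · rw [← Category.assoc, ← Category.assoc, ← Category.assoc, ← MonObj.mul_comp]
    refine hker _ _ ?_
    rw [Category.assoc, hs, Category.comp_id, MonObj.mul_comp, Category.assoc, Category.assoc, hs, Category.comp_id,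
      Category.comp_id]
  · rintro g' ⟨-, hg'⟩
    have := congrArg (s ≫ ·) hg'
    simp only [← Category.assoc, hs, Category.id_comp] at this
    exact this

variable [PerfectRing k p]

theorem frob_range (n : ℕ) (hpS : (p : Γ(B, ⊤)) = 0) (h : WittGrp.W p n B ⟶ WittGrp.W p 1 B) [IsMonHom h] :
    (∃ h₁ : WittGrp.W p n B ⟶ WittGrp.W p 1 B, IsMonHom h₁ ∧ WittGrp.F p n B hpS ≫ h₁ = h) ↔
      (∃ h₂ : WittGrp.W p n B ⟶ WittGrp.W p 1 B, IsMonHom h₂ ∧ h₂ ≫ WittGrp.F p 1 B hpS = h) := by
  let e := coordEquiv p n k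
  constructor
  · rintro ⟨h₁, -, hh⟩
    let Q := MvPolynomial.map ((frobeniusEquiv k p).symm : k →+* k) (e.hom ((vec h₁).coeff 0))
    let h₂ : WittGrp.W p n B ⟶ WittGrp.W p 1 B := ofVec (TruncatedWittVector.mk p fun _ => e.inv Q)
    have hcomp : h₂ ≫ WittGrp.F p 1 B hpS = h := by
      refine vec_injective (TruncatedWittVector.ext fun i => e.commRingCatIsoToRingEquiv.injective ?_)
      obtain rfl : i = 0 := Subsingleton.elim _ _
      rw [coeff_F, vec_ofVec, TruncatedWittVector.coeff_mk, ← hh, coeff_comp, F_eq_powPt]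
      show e.hom (e.inv Q ^ p) = e.hom _
      rw [map_pow, show e.hom (e.inv Q) = Q from e.commRingCatIsoToRingEquiv.apply_symm_apply Q, coordEquiv_powPt,
        ← MvPolynomial.map_frobenius_expand]
      simp only [Q, MvPolynomial.map_expand, MvPolynomial.map_map]
      rw [show (frobenius k p).comp ((frobeniusEquiv k p).symm : k →+* k) = RingHom.id k from
        RingHom.ext fun c => frobenius_apply_frobeniusEquiv_symm k p c, MvPolynomial.map_id]
    refine ⟨h₂, isMonHom_of_pr _ ?_, hcomp⟩
    haveI := isReduced_coord (p := p) (k := k) (n + n)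
    haveI := charP_coord (p := p) (k := k) (n + n)
    refine vec_injective (TruncatedWittVector.ext fun i => frobenius_inj Γ((WittGrp.W p (n + n) B).left, ⊤) p ?_)
    rw [frobenius_def, frobenius_def]
    rw [← coeff_F hpS, ← coeff_F hpS, Category.assoc, hcomp, MonObj.mul_comp, MonObj.mul_comp, Category.assoc,
      Category.assoc, hcomp]
  · rintro ⟨h₂, -, hh⟩
    let Q := MvPolynomial.map (frobenius k p) (e.hom ((vec h₂).coeff 0))
    let h₁ : WittGrp.W p n B ⟶ WittGrp.W p 1 B := ofVec (TruncatedWittVector.mk p fun _ => e.inv Q)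
    have hcomp : WittGrp.F p n B hpS ≫ h₁ = h := by
      refine vec_injective (TruncatedWittVector.ext fun i => e.commRingCatIsoToRingEquiv.injective ?_)
      obtain rfl : i = 0 := Subsingleton.elim _ _
      rw [← hh, coeff_F, coeff_comp, F_eq_powPt, vec_ofVec, TruncatedWittVector.coeff_mk]
      show e.hom ((powPt k n p).left.appTop (e.inv Q)) = e.hom _
      rw [coordEquiv_powPt, show e.hom (e.inv Q) = Q from e.commRingCatIsoToRingEquiv.apply_symm_apply Q, map_pow]
      simp only [Q, ← MvPolynomial.map_expand]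
      exact MvPolynomial.map_frobenius_expand p
    refine ⟨h₁, isMonHom_of_pr _ ?_, hcomp⟩
    haveI : IsMonHom (powPt (p := p) k n p) := by rw [← F_eq_powPt n hpS]; infer_instance
    refine cancel_powPt (q := p) hp.out.pos ?_
    rw [← Category.assoc, MonObj.comp_mul, MonObj.comp_mul, powPt_pr₁, powPt_pr₂, ← MonObj.mul_comp,
      ← Category.assoc, ← Category.assoc, powPt_pr₁, powPt_pr₂, Category.assoc, Category.assoc, Category.assoc,
      ← F_eq_powPt n hpS, hcomp, MonObj.mul_comp]

end Groth.Agent.WittHomLib
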