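import Groth.Agent.WittHomLib.Endo
import Mathlib

/-! Rational points of Witt groups over a field. -/

set_option autoImplicit false
set_option backward.isDefEq.respectTransparency false
universe u

open CategoryTheory CategoryTheory.Limits AlgebraicGeometry Opposite MonObj MonoidalCategory CartesianMonoidalCategory

noncomputable section

namespace Groth.Agent.WittHomLib

variable {p : ℕ} [hp : Fact p.Prime] {k : Type u} [Field k]

local notation "B" => Spec (CommRingCat.of k)

variable (p k) in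
/-- Rational points of `W_n`, with `W_0` as the final object. -/
abbrev Pt (n : ℕ) : Type u := WittGrp.W p 0 B ⟶ WittGrp.W p n B

variable (p k) in
/-- The functions on `W_0` are the constants. -/
def κ : Γ((WittGrp.W p 0 B).left, ⊤) ≃+* k :=
  (coordEquiv p 0 k).commRingCatIsoToRingEquiv.trans (MvPolynomial.isEmptyAlgEquiv k (ULift.{u} (Fin 0))).toRingEquiv

/-- The coordinates of a rational point. -/
def cv {n : ℕ} (x : Pt p k n) (i : Fin n) : k := κ p k ((vec x).coeff i)

theorem cv_injective {n : ℕ} : Function.Injective (cv (p := p) (k := k) (n := n)) := fun _ _ h =>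
  vec_injective (TruncatedWittVector.ext fun i => (κ p k).injective (congrFun h i))

/-- The rational point with given coordinates. -/
def mkPt {n : ℕ} (c : Fin n → k) : Pt p k n := ofVec (TruncatedWittVector.mk p fun i => (κ p k).symm (c i))

theorem cv_mkPt {n : ℕ} (c : Fin n → k) : cv (mkPt (p := p) c) = c :=
  funext fun i => by rw [cv, mkPt, vec_ofVec, TruncatedWittVector.coeff_mk, RingEquiv.apply_symm_apply]

theorem cv_one {n : ℕ} (i : Fin n) : cv (1 : Pt p k n) i = 0 := by
  rw [cv, vec_one, TruncatedWittVector.coeff_zero, map_zero]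

theorem cv_R {n m : ℕ} (h : n ≤ m) (x : Pt p k m) (i : Fin n) :
    cv (x ≫ WittGrp.R p B h) i = cv x ⟨i, i.isLt.trans_le h⟩ := by
  rw [cv, coeff_R, cv]

theorem cv_V {n m : ℕ} (h : n ≤ m) (x : Pt p k n) (i : Fin m) :
    cv (x ≫ WittGrp.V p B h) i = if hi : m - n ≤ (i : ℕ) then cv x ⟨i - (m - n), by omega⟩ else 0 := by
  rw [cv, coeff_V]
  split_ifs
  · rfl
  · exact map_zero _

theorem subsingleton_pt (x y : WittGrp.W p 0 B ⟶ WittGrp.W p 0 B) : x = y := subsingleton_W0 x y

variable [CharP k p]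

theorem cv_comp {n m : ℕ} (x : Pt p k n) (f : WittGrp.W p n B ⟶ WittGrp.W p m B) (i : Fin m) :
    cv (x ≫ f) i = MvPolynomial.aeval (fun j : ULift.{u} (Fin n) => cv x j.down)
      ((coordEquiv p n k).hom ((vec f).coeff i)) := by
  rw [cv, coeff_comp]
  show MvPolynomial.isEmptyAlgEquiv k _ ((coordEquiv p 0 k).hom (x.left.appTop _)) = _
  rw [coordEquiv_point]
  exact (DFunLike.congr_fun (MvPolynomial.comp_aeval
    (fun j : ULift.{u} (Fin n) => (coordEquiv p 0 k).hom ((vec x).coeff j.down))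
    (MvPolynomial.isEmptyAlgEquiv k (ULift.{u} (Fin 0))).toAlgHom) _)

theorem cv_pow {n j : ℕ} (x : Pt p k n) (i : Fin n) :
    cv (x ^ p ^ j) i = if h : j ≤ (i : ℕ) then cv x ⟨i - j, by omega⟩ ^ p ^ j else 0 := by
  haveI := charP_coord (p := p) (k := k) 0
  rw [cv, vec_pow, coeff_pow_nsmul]
  split_ifs
  · rw [map_pow, cv]
  · exact map_zero _

theorem pow_eq_one {n : ℕ} (x : Pt p k n) : x ^ p ^ n = 1 := by
  rw [← Category.comp_id x, ← MonObj.comp_pow, id_pow_eq_one, MonObj.comp_one]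

/-- Over a perfect field every point killed by the restriction to length one is a `p`-th power. -/
theorem exists_pow_p [PerfectRing k p] {n : ℕ} (hn : 1 ≤ n) (x : Pt p k n) (h : x ≫ WittGrp.R p B hn = 1) :
    ∃ z : Pt p k n, z ^ p = x := by
  refine ⟨mkPt fun i => if hi : (i : ℕ) + 1 < n then (frobeniusEquiv k p).symm (cv x ⟨i + 1, hi⟩) else 0,
    cv_injective (funext fun i => ?_)⟩
  refine (congrArg (fun e : ℕ => cv ((mkPt _) ^ e) i) (pow_one p).symm).trans ?_
  rw [cv_pow, cv_mkPt]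
  by_cases hi : 1 ≤ (i : ℕ)
  · rw [dif_pos hi]
    dsimp only
    rw [dif_pos (by omega), pow_one, frobeniusEquiv_symm_pow_p]
    congr 1
    exact Fin.ext (show (i : ℕ) - 1 + 1 = i by omega)
  · rw [dif_neg hi]
    have h0 := congrFun (congrArg cv h) 0
    rw [cv_R, cv_one] at h0
    rw [← h0]
    congr 1
    exact Fin.ext (show (0 : ℕ) = i by omega)

/-- The polynomial in one variable attached to an endomorphism of the additive group. -/
def poly₁ (φ : WittGrp.W p 1 B ⟶ WittGrp.W p 1 B) : Polynomial k :=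
  MvPolynomial.aeval (fun _ : ULift.{u} (Fin 1) => Polynomial.X) ((coordEquiv p 1 k).hom ((vec φ).coeff 0))

theorem eval_poly₁ (φ : WittGrp.W p 1 B ⟶ WittGrp.W p 1 B) (c : Pt p k 1) :
    (poly₁ φ).eval (cv c 0) = cv (c ≫ φ) 0 := by
  rw [cv_comp, poly₁, ← Polynomial.coe_aeval_eq_eval, ← AlgHom.comp_apply, MvPolynomial.comp_aeval]
  refine congrArg (fun w => MvPolynomial.aeval w _) (funext fun j => ?_)
  rw [Polynomial.aeval_X, Subsingleton.elim j.down 0]

theorem poly₁_eq_zero (φ : WittGrp.W p 1 B ⟶ WittGrp.W p 1 B) (h : poly₁ φ = 0) : φ = 1 := by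
  refine vec_injective (TruncatedWittVector.ext fun i => ?_)
  obtain rfl : i = 0 := Subsingleton.elim _ _
  rw [vec_one, TruncatedWittVector.coeff_zero]
  refine (coordEquiv p 1 k).commRingCatIsoToRingEquiv.injective ?_
  rw [map_zero]
  have hinv : (Polynomial.aeval (MvPolynomial.X (ULift.up 0) : MvPolynomial (ULift.{u} (Fin 1)) k)).comp
      (MvPolynomial.aeval (fun _ : ULift.{u} (Fin 1) => (Polynomial.X : Polynomial k))) = AlgHom.id k _ :=
    MvPolynomial.algHom_ext fun j => by
      rw [AlgHom.comp_apply, MvPolynomial.aeval_X, Polynomial.aeval_X, AlgHom.id_apply,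
        Subsingleton.elim j (ULift.up 0)]
  have h2 := congrArg (Polynomial.aeval (MvPolynomial.X (ULift.up 0) : MvPolynomial (ULift.{u} (Fin 1)) k)) h
  rw [poly₁, ← AlgHom.comp_apply, hinv, AlgHom.id_apply, map_zero] at h2
  exact h2

theorem ker_and_surj_W1 [IsAlgClosed k] (φ : WittGrp.W p 1 B ⟶ WittGrp.W p 1 B) [IsMonHom φ] (hφ : φ ≠ 1) :
    {c : Pt p k 1 | c ≫ φ = 1}.Finite ∧ ∀ d : Pt p k 1, ∃ c : Pt p k 1, c ≫ φ = d := by
  have hext : ∀ {c c' : Pt p k 1}, cv c 0 = cv c' 0 → c = c' := fun {c c'} h =>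
    cv_injective (funext fun i => by rw [Subsingleton.elim i 0]; exact h)
  have hq : poly₁ φ ≠ 0 := fun h => hφ (poly₁_eq_zero φ h)
  have h0 : (poly₁ φ).eval 0 = 0 := by
    rw [← cv_one (p := p) (k := k) (n := 1) 0, eval_poly₁, MonObj.one_comp]
  have hdeg : (poly₁ φ).natDegree ≠ 0 := fun h => hq (by
    rw [Polynomial.eq_C_of_natDegree_eq_zero h] at h0 ⊢
    rw [Polynomial.eval_C] at h0
    rw [h0, map_zero])
  refine ⟨Set.Finite.of_finite_image (f := fun c : Pt p k 1 => cv c 0) ?_ (fun c _ c' _ h => hext h), fun d => ?_⟩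
  · classical
    refine (poly₁ φ).roots.toFinset.finite_toSet.subset ?_
    rintro _ ⟨c, hc, rfl⟩
    rw [Finset.mem_coe, Multiset.mem_toFinset, Polynomial.mem_roots hq, Polynomial.IsRoot, eval_poly₁,
      show c ≫ φ = 1 from hc, cv_one]
  · have hdeg' : (poly₁ φ - Polynomial.C (cv d 0)).degree ≠ 0 := fun h => hdeg (by
      have := Polynomial.natDegree_eq_of_degree_eq_some (n := 0) (by exact_mod_cast h)
      rwa [Polynomial.natDegree_sub_C] at this)
    obtain ⟨a, ha⟩ := IsAlgClosed.exists_root _ hdeg'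
    refine ⟨mkPt fun _ => a, hext ?_⟩
    rw [← eval_poly₁, cv_mkPt]
    rwa [Polynomial.IsRoot, Polynomial.eval_sub, Polynomial.eval_C, sub_eq_zero] at ha

end Groth.Agent.WittHomLib
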