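import Mathlib
import Groth.Prelude.Def_WittGrp

/-! Truncated Witt vectors: kernels of truncations and multiplication by powers of `p`. -/

set_option autoImplicit false
universe u

namespace Groth.Agent.WittHomLib

variable {p : ℕ} [Fact p.Prime] {R : Type u} [CommRing R]

theorem shift_inj {n N : ℕ} (h : n ≤ N) :
    Function.Injective (WittGrp.shift p h : TruncatedWittVector p n R → TruncatedWittVector p N R) := by
  intro x y hxy
  refine TruncatedWittVector.ext fun i => ?_
  have hi : N - n ≤ (i : ℕ) + (N - n) := Nat.le_add_left _ _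
  have h1 := congrArg (fun z : TruncatedWittVector p N R => z.coeff ⟨(i : ℕ) + (N - n), by omega⟩) hxy
  simp only [WittGrp.coeff_shift, dif_pos hi] at h1
  convert h1 using 2 <;> exact Fin.ext (by simp)

theorem exists_shift {a b N : ℕ} (hb : b ≤ N) (hab : a + b = N) (w : TruncatedWittVector p N R)
    (hw : ∀ i : Fin N, (i : ℕ) < a → w.coeff i = 0) : ∃ x, WittGrp.shift p hb x = w := by
  refine ⟨TruncatedWittVector.mk p fun i => w.coeff ⟨(i : ℕ) + a, by omega⟩, TruncatedWittVector.ext fun i => ?_⟩
  rw [WittGrp.coeff_shift]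
  split_ifs with hi
  · rw [TruncatedWittVector.coeff_mk]
    congr 1
    exact Fin.ext (show (i : ℕ) - (N - b) + a = i by omega)
  · exact (hw i (by omega)).symm

theorem truncate_eq_zero_iff {a N : ℕ} (ha : a ≤ N) (w : TruncatedWittVector p N R) :
    TruncatedWittVector.truncate ha w = 0 ↔ ∀ i : Fin N, (i : ℕ) < a → w.coeff i = 0 := by
  constructor
  · intro h i hi
    have h1 := congrArg (fun z : TruncatedWittVector p a R => z.coeff ⟨i, hi⟩) h
    simpa [TruncatedWittVector.coeff_truncate] using h1
  · intro h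
    refine TruncatedWittVector.ext fun i => ?_
    rw [TruncatedWittVector.coeff_truncate, TruncatedWittVector.coeff_zero]
    exact h _ i.isLt

theorem truncate_shift {a b N : ℕ} (ha : a ≤ N) (hb : b ≤ N) (hab : a + b = N) (x : TruncatedWittVector p b R) :
    TruncatedWittVector.truncate ha (WittGrp.shift p hb x) = 0 :=
  (truncate_eq_zero_iff ha _).mpr fun i hi => by rw [WittGrp.coeff_shift, dif_neg (by omega)]

theorem coeff_pow_nsmul [CharP R p] {N j : ℕ} (v : TruncatedWittVector p N R) (i : Fin N) :
    ((p ^ j) • v).coeff i = if h : j ≤ (i : ℕ) then v.coeff ⟨i - j, by omega⟩ ^ p ^ j else 0 := by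
  obtain ⟨X, rfl⟩ := WittVector.truncate_surjective p N R v
  rw [← map_nsmul, nsmul_eq_mul, mul_comm, Nat.cast_pow, WittVector.coeff_truncate]
  split_ifs with h
  · conv_lhs => rw [show (i : ℕ) = ((i : ℕ) - j) + j by omega]
    rw [WittVector.mul_pow_charP_coeff_succ, WittVector.coeff_truncate]
  · exact WittVector.mul_pow_charP_coeff_zero _ (by omega)

theorem coeff_nsmul_p [CharP R p] {N : ℕ} (v : TruncatedWittVector p N R) (i : Fin N) :
    (p • v).coeff i = if h : 1 ≤ (i : ℕ) then v.coeff ⟨i - 1, by omega⟩ ^ p else 0 := by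
  have h := coeff_pow_nsmul (j := 1) v i
  simp only [pow_one] at h
  exact h

end Groth.Agent.WittHomLib
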